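/-
The root system of type E6.
-/
import Cfsg.Agent.Lib.Chev.TabE6
import Cfsg.Agent.Lib.Chev.Inst

set_option autoImplicit false
set_option maxRecDepth 100000

namespace Cfsg.Lib.Chev

open Cfsg.Lie

/-- The roots of type E6, eight bytes per root. -/
def rtsE6 : ℕ := 0x90a0a0b0a09000009090a0b0a09000009090a0a0a09000009090a0a0909000009090a0a090800000909090a0a0900000909090a090900000909090a09080000090909090909000009090909090800000909090908080000090809090909000009080909090800000908090908080000090809080808000009080808080800000809090a0a0900000809090a090900000809090a090800000809090909090000080909090908000008090909080800000809080909090000080908090908000008090809080800000809080808080000080809090909000008080909090800000808090908080000080809080808000008080809090900000808080909080000080808090808000008080808090900000808080809080000080808080809000008080808080700000808080807080000080808080707000008080807080800000808080707080000080808070707000008080708080800000808070708080000080807070708000008080707070700000807080808080000080708070808000008070807070800000807080707070000080707070808000008070707070800000807070707070000080707060708000008070706070700000807070606070000070808080808000007080708080800000708070708080000070807070708000007080707070700000707070708080000070707070708000007070707070700000707070607080000070707060707000007070706060700000707060607080000070706060707000007070606060700000707060506070000070606050607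

/-- The root lengths of type E6, one byte per root. -/
def lensE6 : ℕ := 0x10101010101010101010101010101010101010101010101010101010101010101010101010101010101010101010101010101010101010101010101010101010101010101010101

theorem chkR1_E6 : chkR1 chevE6 rtsE6 8830587504648 lensE6 = true := by decide +kernel
theorem chkR2_E6 : chkR2 chevE6 rtsE6 8830587504648 lensE6 = true := by decide +kernel
theorem chkR3_E6 : chkR3 chevE6 rtsE6 8830587504648 lensE6 sigE6 = true := by decide +kernel
theorem chkR4_E6 : chkR4 chevE6 rtsE6 8830587504648 = true := by decide +kernel
theorem chkR5_E6 : chkR5 chevE6 rtsE6 8830587504648 lensE6 sigE6 = true := by decide +kernel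

theorem sig_E6 : ∀ i < chevE6.rank, ∀ s < chevE6.nroots, lk (sigE6.getD i 0) s = chevE6.reflectRoot i s :=
  sig_of_chkLight _ _ chkLight_E6

theorem exists_compat_E6 : ∃ R, Compat chevE6 R :=
  exists_compat _ _ _ _ _ matOK_E6 sig_E6 chkR1_E6 chkR2_E6 chkR3_E6 chkR4_E6 chkR5_E6

end Cfsg.Lib.Chev
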