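/-
The root system of type E7.
-/
import Cfsg.Agent.Lib.Chev.TabE7
import Cfsg.Agent.Lib.Chev.Inst

set_option autoImplicit false
set_option maxRecDepth 100000

namespace Cfsg.Lib.Chev

open Cfsg.Lie

/-- The roots of type E7, eight bytes per root. -/
def rtsE7 : ℕ := 0xa0a0b0c0b0a0900090a0b0c0b0a0900090a0a0c0b0a0900090a0a0b0b0a0900090a0a0b0a0a0900090a0a0b0a090900090a0a0b0a09080009090a0b0b0a090009090a0b0a0a090009090a0b0a09090009090a0b0a09080009090a0a0a0a090009090a0a0a09090009090a0a0a09080009090a0a0909090009090a0a0909080009090a0a090808000909090a0a0a09000909090a0a0909000909090a0a0908000909090a090909000909090a090908000909090a0908080009090909090909000909090909090800090909090908080009090909080808000908090909090900090809090909080009080909090808000908090908080800090809080808080009080808080808000809090a0a0a09000809090a0a0909000809090a0a0908000809090a090909000809090a090908000809090a09080800080909090909090008090909090908000809090909080800080909090808080008090809090909000809080909090800080908090908080008090809080808000809080808080800080809090909090008080909090908000808090909080800080809090808080008080908080808000808080909090900080808090909080008080809090808000808080908080800080808080909090008080808090908000808080809080800080808080809090008080808080908000808080808080900080808080808070008080808080708000808080808070700080808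0807080800080808080707080008080808070707000808080708080800080808070708080008080807070708000808080707070700080807080808080008080707080808000808070707080800080807070707080008080707070707000807080808080800080708070808080008070807070808000807080707070800080708070707070008070707080808000807070707080800080707070707080008070707070707000807070607080800080707060707080008070706070707000807070606070800080707060607070008070706060607000708080808080800070807080808080007080707080808000708070707080800070807070707080007080707070707000707070708080800070707070708080007070707070708000707070707070700070707060708080007070706070708000707070607070700070707060607080007070706060707000707070606060700070706060708080007070606070708000707060607070700070706060607080007070606060707000707060606060700070706050607080007070605060707000707060506060700070706050506070007060605060708000706060506070700070606050606070007060605050607000706060405060700070605040506070006060504050607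

/-- The root lengths of type E7, one byte per root. -/
def lensE7 : ℕ := 0x10101010101010101010101010101010101010101010101010101010101010101010101010101010101010101010101010101010101010101010101010101010101010101010101010101010101010101010101010101010101010101010101010101010101010101010101010101010101010101010101010101010101

theorem chkR1_E7 : chkR1 chevE7 rtsE7 2260630401189896 lensE7 = true := by decide +kernel
theorem chkR2_E7 : chkR2 chevE7 rtsE7 2260630401189896 lensE7 = true := by decide +kernel
theorem chkR3_E7 : chkR3 chevE7 rtsE7 2260630401189896 lensE7 sigE7 = true := by decide +kernel
theorem chkR4_E7 : chkR4 chevE7 rtsE7 2260630401189896 = true := by decide +kernel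
theorem chkR5_E7 : chkR5 chevE7 rtsE7 2260630401189896 lensE7 sigE7 = true := by decide +kernel

theorem sig_E7 : ∀ i < chevE7.rank, ∀ s < chevE7.nroots, lk (sigE7.getD i 0) s = chevE7.reflectRoot i s :=
  sig_of_chkLight _ _ chkLight_E7

theorem exists_compat_E7 : ∃ R, Compat chevE7 R :=
  exists_compat _ _ _ _ _ matOK_E7 sig_E7 chkR1_E7 chkR2_E7 chkR3_E7 chkR4_E7 chkR5_E7

end Cfsg.Lib.Chev
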