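/-
The root system of type F4.
-/
import Cfsg.Agent.Lib.Chev.TabF4
import Cfsg.Agent.Lib.Chev.Inst

set_option autoImplicit false
set_option maxRecDepth 100000

namespace Cfsg.Lib.Chev

open Cfsg.Lie

/-- The roots of type F4, eight bytes per root. -/
def rtsF4 : ℕ := 0xa0c0b0a000000000a0c0b09000000000a0c0a09000000000a0b0a09000000000a0a0a09000000000a0a0909000000000a0a090800000000090b0a0900000000090a0a0900000000090a090900000000090a0908000000000909090900000000090909080000000009090808000000000908080800000000080a0a0900000000080a090900000000080a0908000000000809090900000000080909080000000008090808000000000808090900000000080809080000000008080809000000000808080700000000080807080000000008080707000000000807080800000000080707080000000008070707000000000806070800000000080607070000000008060607000000000708080800000000070708080000000007070708000000000707070700000000070607080000000007060707000000000706060700000000070506070000000006060708000000000606070700000000060606070000000006050607000000000604060700000000060405070000000006040506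

/-- The root lengths of type F4, one byte per root. -/
def lensF4 : ℕ := 0x20202010202020101010101010101020202010101020202020202010101020202010101010101010102020201020202

theorem chkR1_F4 : chkR1 chevF4 rtsF4 134744072 lensF4 = true := by decide +kernel
theorem chkR2_F4 : chkR2 chevF4 rtsF4 134744072 lensF4 = true := by decide +kernel
theorem chkR3_F4 : chkR3 chevF4 rtsF4 134744072 lensF4 sigF4 = true := by decide +kernel
theorem chkR4_F4 : chkR4 chevF4 rtsF4 134744072 = true := by decide +kernel
theorem chkR5_F4 : chkR5 chevF4 rtsF4 134744072 lensF4 sigF4 = true := by decide +kernel

theorem sig_F4 : ∀ i < chevF4.rank, ∀ s < chevF4.nroots, lk (sigF4.getD i 0) s = chevF4.reflectRoot i s :=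
  sig_of_chkLight _ _ chkLight_F4

theorem exists_compat_F4 : ∃ R, Compat chevF4 R :=
  exists_compat _ _ _ _ _ matOK_F4 sig_F4 chkR1_F4 chkR2_F4 chkR3_F4 chkR4_F4 chkR5_F4

end Cfsg.Lib.Chev
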