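/-
Orders of the diagonal subgroups and of the Chevalley groups of the tabulated types.
-/
import Cfsg.Agent.Lib.Chev.Torus

set_option autoImplicit false

namespace Cfsg.Lib.Chev

open Cfsg.Lie

universe u

/-- A matrix given by its rows. -/
def tab (l : List (List ℤ)) (i j : ℕ) : ℤ := (l.getD i []).getD j 0

variable {F : Type u} [Field F] [Finite F]

theorem card_cartanKer_G2 {R : RootSys (Fin chevG2.rank) (Fin chevG2.nroots)} (hc : Compat chevG2 R) :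
    Nat.card (cartanKer R.A Fˣ) = 1 := by
  simpa using hc.card_cartanKer_of_dec (F := F) (t := 0) ![] (tab [[], []]) 1
    (tab [[2, 1], [3, 2]])
    (tab []) (by decide +kernel)

theorem card_cartanKer_F4 {R : RootSys (Fin chevF4.rank) (Fin chevF4.nroots)} (hc : Compat chevF4 R) :
    Nat.card (cartanKer R.A Fˣ) = 1 := by
  simpa using hc.card_cartanKer_of_dec (F := F) (t := 0) ![] (tab [[], [], [], []]) 1
    (tab [[2, 3, 2, 1], [3, 6, 4, 2], [4, 8, 6, 3], [2, 4, 3, 2]])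
    (tab []) (by decide +kernel)

theorem card_cartanKer_E8 {R : RootSys (Fin chevE8.rank) (Fin chevE8.nroots)} (hc : Compat chevE8 R) :
    Nat.card (cartanKer R.A Fˣ) = 1 := by
  simpa using hc.card_cartanKer_of_dec (F := F) (t := 0) ![] (tab [[], [], [], [], [], [], [], []]) 1
    (tab [[4, 5, 7, 10, 8, 6, 4, 2], [5, 8, 10, 15, 12, 9, 6, 3], [7, 10, 14, 20, 16, 12, 8, 4], [10, 15, 20, 30, 24, 18, 12, 6], [8, 12, 16, 24, 20, 15, 10, 5], [6, 9, 12, 18, 15, 12, 8, 4], [4, 6, 8, 12, 10, 8, 6, 3], [2, 3, 4, 6, 5, 4, 3, 2]])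
    (tab []) (by decide +kernel)

theorem card_cartanKer_E6 {R : RootSys (Fin chevE6.rank) (Fin chevE6.nroots)} (hc : Compat chevE6 R) :
    Nat.card (cartanKer R.A Fˣ) = Nat.gcd 3 (Nat.card F - 1) := by
  simpa using hc.card_cartanKer_of_dec (F := F) (t := 1) ![⟨0, by decide⟩] (tab [[1], [0], [2], [0], [1], [2]]) 3
    (tab [[0, 0, 0, 0, 0, 0], [1, 2, 2, 3, 2, 1], [-1, 0, 0, 0, 0, 0], [2, 3, 4, 6, 4, 2], [0, 1, 1, 2, 2, 1], [-2, -1, -2, -2, -1, 0]])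
    (tab [[4, 3, 5, 6, 4, 2]]) (by decide +kernel)

theorem card_cartanKer_E7 {R : RootSys (Fin chevE7.rank) (Fin chevE7.nroots)} (hc : Compat chevE7 R) :
    Nat.card (cartanKer R.A Fˣ) = Nat.gcd 2 (Nat.card F - 1) := by
  simpa using hc.card_cartanKer_of_dec (F := F) (t := 1) ![⟨1, by decide⟩] (tab [[0], [1], [0], [0], [1], [0], [1]]) 2
    (tab [[2, 2, 3, 4, 3, 2, 1], [0, 0, 0, 0, 0, 0, 0], [3, 4, 6, 8, 6, 4, 2], [4, 6, 8, 12, 9, 6, 3], [1, 1, 2, 3, 3, 2, 1], [2, 3, 4, 6, 5, 4, 2], [-1, -2, -2, -3, -2, -1, 0]])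
    (tab [[4, 7, 8, 12, 9, 6, 3]]) (by decide +kernel)

theorem card_cartanKer_B2 {R : RootSys (Fin chevB2.rank) (Fin chevB2.nroots)} (hc : Compat chevB2 R) :
    Nat.card (cartanKer R.A Fˣ) = Nat.gcd 2 (Nat.card F - 1) := by
  simpa using hc.card_cartanKer_of_dec (F := F) (t := 1) ![⟨0, by decide⟩] (tab [[1], [0]]) 2
    (tab [[0, 0], [1, 1]])
    (tab [[2, 1]]) (by decide +kernel)

theorem card_cartanKer_D4 {R : RootSys (Fin chevD4.rank) (Fin chevD4.nroots)} (hc : Compat chevD4 R) :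
    Nat.card (cartanKer R.A Fˣ) = Nat.gcd 2 (Nat.card F - 1) ^ 2 := by
  simpa using hc.card_cartanKer_of_dec (F := F) (t := 2) ![⟨0, by decide⟩, ⟨2, by decide⟩] (tab [[1, 0], [0, 0], [0, 1], [1, 1]]) 2
    (tab [[0, 0, 0, 0], [1, 2, 1, 1], [0, 0, 0, 0], [-1, -1, -1, 0]])
    (tab [[2, 2, 1, 1], [1, 2, 2, 1]]) (by decide +kernel)

theorem one_le_pow_card (k : ℕ) : 1 ≤ Nat.card F ^ k := Nat.one_le_pow _ _ Nat.card_pos

end Cfsg.Lib.Chev
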