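/-
Homomorphisms from `SL_n` attached to chains of simple roots; products of two regular unipotent elements.
-/
import Cfsg.Agent.Lib.Chev.CT3
import Cfsg.Agent.Lib.Linear.Lev
import Cfsg.Agent.Lib.Linear.AutPSL

set_option autoImplicit false

namespace Cfsg.Lib.Chev

open Matrix Cfsg.Lib.Linear PreSys SL3 Cfsg.Lib.Known Lev
open scoped commutatorElement

local notation "SL" => Matrix.SpecialLinearGroup

variable {I Φ : Type*} [Fintype I] [DecidableEq I] [Finite Φ] {R : RootSys I Φ} {F : Type*} [Field F]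
  {Γ : Type*} [Group Γ] {S : PreSys R F Γ}

omit [Finite Φ] in
theorem RootSys.sl_of_len (h : ∀ i j, R.len (R.simple i) = R.len (R.simple j)) : R.SL := fun r s => by
  obtain ⟨w, hw, i, rfl⟩ := R.exists_W_simple r
  obtain ⟨w', hw', j, rfl⟩ := R.exists_W_simple s
  have := R.len_pair_symm (w (R.simple i)) (w' (R.simple j))
  rw [RootSys.W_len hw, RootSys.W_len hw', h i j] at this
  exact mul_left_cancel₀ (R.len_pos' _).ne' this

omit [Finite Φ] in
theorem PreSys.comm_orth (S : PreSys R F Γ) {i j : I} (h : i ≠ j) (h' : R.A i j = 0) (t u : F) :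
    (Commute (S.x (R.simple i) t) (S.x (R.simple j) u) ∧ Commute (S.x (R.simple i) t) (S.x (R.neg (R.simple j)) u)) ∧
      Commute (S.x (R.neg (R.simple i)) t) (S.x (R.simple j) u) ∧
      Commute (S.x (R.neg (R.simple i)) t) (S.x (R.neg (R.simple j)) u) := by
  have a : ∀ i, R.InSub ({i} : Finset I) (R.simple i) := fun i => RootSys.inSub_simple.2 (by simp)
  have b := fun r s hr hs => S.commute_of_cone (RootSys.cone_of_orth h h' (r := r) (s := s) hr hs).1
    (RootSys.cone_of_orth h h' hr hs).2 t u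
  exact ⟨⟨b _ _ (a i) (a j), b _ _ (a i) (RootSys.inSub_neg.2 (a j))⟩, b _ _ (RootSys.inSub_neg.2 (a i)) (a j),
    b _ _ (RootSys.inSub_neg.2 (a i)) (RootSys.inSub_neg.2 (a j))⟩

section

variable [Fintype F]

theorem PreSys.St.exists_sl3' (hS : S.St) (hF : S.Sep) (hR : R.SL) {i j : I} (hij : i ≠ j) (hA : R.A i j ≠ 0) :
    ∃ ρ : SL (Fin 3) F →* Γ, ∀ t, (ρ (blk ((sl2 F).x true t)) = S.x (R.simple i) t ∧
      ρ (blk ((sl2 F).x false t)) = S.x (R.neg (R.simple i)) t) ∧ ρ (blk' ((sl2 F).x true t)) = S.x (R.simple j) t ∧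
      ρ (blk' ((sl2 F).x false t)) = S.x (R.neg (R.simple j)) t := by
  have p1 : R.pair (R.simple i) (R.simple j) = -1 := by
    have := (hR.pair_le (R.simple_inj.ne hij.symm) (R.simple_ne_neg j i)).1
    have := R.A_nonpos hij
    rw [R.pair_simple_simple] at *; omega
  obtain ⟨k, e⟩ := R.exists_add (p1.trans_lt (by decide)) (R.simple_ne_neg j i)
  have e' : R.rt (R.neg k) = R.rt (R.neg (R.simple j)) + R.rt (R.neg (R.simple i)) := by simp [R.rt_neg, e]
  obtain ⟨ε, h0, h1⟩ := hS.comm_A2 hF hR e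
  obtain ⟨η, h0', h1'⟩ := hS.comm_A2 hF hR e'
  have inv : ∀ {a b c : Φ} {z : F}, (∀ t u, ⁅S.x a t, S.x b u⁆ = S.x c (z * t * u)) → ∀ t u,
      ⁅S.x b t, S.x a u⁆ = S.x c (-z * t * u) := fun h t u => by
    rw [← commutatorElement_inv, h, ← S.x_neg]; congr 1; ring
  have h2 := hS.comm_neg_A2 hF hR e h0 h1
  have h3 := inv (hS.comm_neg_A2 hF hR (e.trans (add_comm _ _)) (by simpa using h0) (inv h1))
  have h2' := hS.comm_neg_A2 hF hR e' h0' h1'
  have h3' := inv (hS.comm_neg_A2 hF hR (e'.trans (add_comm _ _)) (by simpa using h0') (inv h1'))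
  simp only [R.neg_neg, neg_neg] at h3 h2' h3'
  have p2 := (hR _ _).trans p1
  have p3 : R.pair (R.simple i) k = 1 := by rw [R.pair_add e, R.pair_self, p1]; rfl
  have p4 : R.pair (R.simple j) k = 1 := by rw [R.pair_add e, R.pair_self, p2]; rfl
  have p5 := (hR _ _).trans p3
  have p6 := (hR _ _).trans p4
  let r : Fin 3 → Fin 3 → Φ := ![![k, R.simple i, k], ![R.neg (R.simple i), k, R.simple j],
    ![R.neg k, R.neg (R.simple j), k]]
  let c : Fin 3 → Fin 3 → F := ![![1, 1, ε], ![1, 1, 1], ![η, 1, 1]]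
  have q1 : ∀ a b a' b' : Fin 3, a ≠ b → a' ≠ b' → a ≠ b' → b ≠ a' → 0 ≤ R.pair (r a b) (r a' b') := by
    simp [Fin.forall_fin_succ, r, R.pair_neg_left, R.pair_neg_right, R.pair_self, p1, p2, p3, p4, p5, p6]
  have q2 : ∀ a b b' : Fin 3, a ≠ b → b ≠ b' → a ≠ b' → ∀ t u,
      ⁅S.x (r a b) (c a b * t), S.x (r b b') (c b b' * u)⁆ = S.x (r a b') (c a b' * (t * u)) := by
    simp [Fin.forall_fin_succ, r, c, h1, h2, h3, h1', h2', h3', ← mul_assoc, h0, h0', mul_right_comm _ _ ε,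
      mul_right_comm _ _ η]
  obtain ⟨ρ, h⟩ := exists_hom_of_relA (n := 2) le_rfl (fun a t => S.x (r a.1.1 a.1.2) (c a.1.1 a.1.2 * t))
    (fun a t u => by rw [mul_add, S.x_add]) (fun a b t u h1 h2 =>
      commutatorElement_eq_one_iff_mul_comm.2 (S.commute_of_sl hR (q1 _ _ _ _ a.2 b.2 h1 h2) _ _))
    fun ⟨⟨a, b⟩, h⟩ ⟨⟨a', b'⟩, h'⟩ h4 t u h5 => by obtain rfl : b = a' := h5; exact q2 _ _ _ h h' h4 t u
  have a1 : ∀ t, ρ (blk ((sl2 F).x true t)) = S.x (R.simple i) t := fun t => by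
    rw [blk_true]; simpa [r, c] using h ⟨(0, 1), by decide⟩ t
  have a2 : ∀ t, ρ (blk ((sl2 F).x false t)) = S.x (R.neg (R.simple i)) t := fun t => by
    rw [blk_false]; simpa [r, c] using h ⟨(1, 0), by decide⟩ t
  have a3 : ∀ t, ρ (blk' ((sl2 F).x true t)) = S.x (R.simple j) t := fun t => by
    rw [blk'_true]; simpa [r, c] using h ⟨(1, 2), by decide⟩ t
  have a4 : ∀ t, ρ (blk' ((sl2 F).x false t)) = S.x (R.neg (R.simple j)) t := fun t => by
    rw [blk'_false]; simpa [r, c] using h ⟨(2, 1), by decide⟩ t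
  exact ⟨ρ, fun t => ⟨⟨a1 t, a2 t⟩, a3 t, a4 t⟩⟩

theorem PreSys.St.exists_chain (hS : S.St) (hF : S.Sep) {k : ℕ} {j : Fin k → I}
    (hA : ∀ a b, R.A (j a) (j b) = (euA k).R.A a b) : ∃ ρ : SL (Fin (k + 1)) F →* Γ, ∀ a t,
      ρ ((sysA k F).x ((euA k).R.simple a) t) = S.x (R.simple (j a)) t ∧
      ρ ((sysA k F).x ((euA k).R.neg ((euA k).R.simple a)) t) = S.x (R.neg (R.simple (j a))) t := by
  match k with
  | 0 => exact ⟨1, fun a => a.elim0⟩
  | 1 =>
    obtain ⟨φ, -, h⟩ := hS.exists_sl2_hom hS.mult_of_finite (R.simple (j 0))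
    refine ⟨φ, fun a t => ?_⟩
    obtain rfl : a = 0 := Subsingleton.elim _ _
    rw [← (h t).1, ← (h t).2]
    constructor <;> congr 1 <;> ext a b <;> fin_cases a <;> fin_cases b <;>
      simp [sysA_x, sl2_true, sl2_false, euA_simple, euA_neg, SpecialLinearGroup.transvection_coe]
  | k + 2 =>
    have ne : ∀ {a b}, a ≠ b → j a ≠ j b := fun {a b} h e => by
      have := (euA _).R.A_nonpos h
      rw [← hA, e, R.A_self] at this; omega
    refine sysA_st.exists_hom_of_loc sysA_sep sysA_st.mult_of_finite sysA_opp sysA_sc sysA_gen _ _ fun a b g hg e =>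
      congrArg Prod.snd (sysA_st.inj_of_adj sysA_sep sysA_st.mult_of_finite sysA_opp sysA_sc (nbA' (by omega))
        (π := MonoidHom.fst _ Γ) (fun _ _ => rfl) (fun _ _ => rfl) (fun a b h h' g hg e => ?_)
        (fun a b h h' g hg g' hg' => ?_) a b g hg e)
    · obtain ⟨ρ, h1, h2⟩ := sysA_st.exists_sl3 (F := F) sysA_sep sysA_sc (slA _) h h'
      have h4 : R.len (R.simple (j a)) = R.len (R.simple (j b)) := by
        have h5 := R.len_symm (j a) (j b)
        have h6 := slA _ ((euA _).R.simple a) ((euA _).R.simple b)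
        rw [RootSys.pair_simple_simple, RootSys.pair_simple_simple] at h6
        rw [hA, hA, ← h6] at h5
        exact_mod_cast mul_right_cancel₀ h' h5
      obtain ⟨ρ', h3⟩ := (hS.sub {j a, j b}).exists_sl3' (hF.sub _) (RootSys.sl_of_len fun ⟨i, hi⟩ ⟨i', hi'⟩ => by
        change R.len (R.simple i) = R.len (R.simple i')
        rcases (by simpa using hi : i = j a ∨ i = j b) with rfl | rfl <;>
          rcases (by simpa using hi' : i' = j a ∨ i' = j b) with rfl | rfl <;> simp [h4])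
        (i := ⟨j a, by simp⟩) (j := ⟨j b, by simp⟩) (Subtype.coe_ne_coe.1 (ne h)) ((hA a b).trans_ne h')
      obtain ⟨x, rfl⟩ := (Subgroup.closure_le (K := (ρ.prod ρ').range)).2 (by
        rintro _ ⟨c, hc, t, rfl | rfl⟩ <;> rcases (by simpa using hc : c = a ∨ c = b) with rfl | rfl
        exacts [⟨_, Prod.ext (h2 t).1.1 (h3 t).1.1⟩, ⟨_, Prod.ext (h2 t).2.1 (h3 t).2.1⟩,
          ⟨_, Prod.ext (h2 t).1.2 (h3 t).1.2⟩, ⟨_, Prod.ext (h2 t).2.2 (h3 t).2.2⟩]) hg
      rw [(injective_iff_map_eq_one ρ).1 h1 x e, map_one]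
    · have k1 := PreSys.comm_orth (sysA (k + 2) F) h h'
      have k2 := PreSys.comm_orth S (ne h) ((hA a b).trans h')
      refine (Subgroup.closure_le (K := Subgroup.centralizer {g'})).2 ?_ hg g' rfl |>.symm
      rintro x hx _ rfl
      refine (Subgroup.closure_le (K := Subgroup.centralizer {x})).2 ?_ hg' x rfl |>.symm
      rintro y hy _ rfl
      obtain ⟨c, hc, t, rfl | rfl⟩ := hx <;> obtain ⟨d, hd, u, rfl | rfl⟩ := hy <;> obtain rfl : c = a := by simpa using hc
      all_goals obtain rfl : d = b := by simpa using hd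
      exacts [Prod.ext (k1 t u).1.1 (k2 t u).1.1, Prod.ext (k1 t u).1.2 (k2 t u).1.2,
        Prod.ext (k1 t u).2.1 (k2 t u).2.1, Prod.ext (k1 t u).2.2 (k2 t u).2.2]

end

variable {n : ℕ}

theorem reg_jSL : Reg (toLin' (jSL (n + 1) F).1) := by
  have e : toLin' (jSL (n + 1) F).1 - 1 = toLinAlgEquiv' (shM (n + 1) F) := by
    rw [coe_jSL, map_add, toLin'_one, ← Module.End.one_eq_id, add_sub_cancel_left]; rfl
  refine ⟨e ▸ IsNilpotent.map ⟨_, shM_pow_eq_zero⟩ _, ?_⟩
  have := LinearMap.finrank_le_finrank_of_injective (f := LinearMap.proj (R := F) (φ := fun _ : Fin (n + 1) => F)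
    0 ∘ₗ (LinearMap.ker (toLin' (jSL (n + 1) F).1 - 1)).subtype)
    ((injective_iff_map_eq_zero _).2 fun y hy => Subtype.ext (funext fun i => by
      by_cases h : i.val = 0
      · have : i = 0 := Fin.ext h
        rw [this]; exact hy
      · have h1 := congrFun ((LinearMap.congr_fun e y.1).symm.trans (LinearMap.mem_ker.1 y.2))
          ⟨i.val - 1, by omega⟩
        simp only [toLinAlgEquiv'_apply, mulVec, dotProduct, shM, of_apply] at h1
        rw [Finset.sum_eq_single i (fun j _ hj => by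
          rw [if_neg fun e => hj (Fin.ext (by omega)), zero_mul]) (by simp), if_pos (by omega), one_mul] at h1
        exact h1))
  simpa using this

theorem exists_slConj {A B : SL (Fin n) F} (h : ∃ g : GL (Fin n) F, g.1 * A.1 = B.1 * g) : ∃ x, slConj _ F x A = B :=
  let ⟨x, hx⟩ := h; ⟨x, Subtype.ext (by rw [coe_slConj, hx, Units.mul_inv_cancel_right])⟩

theorem jSL_inv : ∃ x, slConj _ F x (jSL (n + 1) F) = (jSL (n + 1) F)⁻¹ := by
  refine exists_slConj (sim_toLin'_iff.1 (reg_jSL.sim ?_ rfl))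
  have h := reg_jSL (F := F) (n := n)
  have e : toLin' ((jSL (n + 1) F)⁻¹ : SL _ F).1 * toLin' (jSL (n + 1) F).1 = (1 : Module.End F _) := by
    rw [Module.End.mul_eq_comp, ← toLin'_mul, sl_coe_inv_mul, toLin'_one]; rfl
  have e' : toLin' (jSL (n + 1) F).1 * toLin' ((jSL (n + 1) F)⁻¹ : SL _ F).1 = (1 : Module.End F _) := by
    rw [Module.End.mul_eq_comp, ← toLin'_mul, sl_coe_mul_inv, toLin'_one]; rfl
  generalize toLin' ((jSL (n + 1) F)⁻¹ : SL _ F).1 = a at *
  generalize toLin' (jSL (n + 1) F).1 = b at *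
  have e1 : a - 1 = -a * (b - 1 : Module.End F _) := by
    exact LinearMap.ext fun y => by simp [show a (b y) = y from LinearMap.congr_fun e y]
  refine ⟨e1 ▸ Commute.isNilpotent_mul_left ?_ h.1, ?_⟩
  · exact (Commute.sub_right (e.trans e'.symm) (Commute.one_right _)).neg_left
  · rw [e1, Module.End.mul_eq_comp, LinearMap.ker_comp_of_ker_eq_bot _
      ((LinearMap.isUnit_iff_ker_eq_bot _).1 (IsUnit.neg ⟨⟨_, _, e, e'⟩, rfl⟩))]
    exact h.2

theorem jSL_invT : ∃ x, slConj _ F x (slInvT _ F (jSL (n + 1) F)) = (jSL (n + 1) F)⁻¹ :=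
  exists_slConj (ed_eq_iff.1 (by rw [coe_slInvT, ed_transpose]))

theorem two_jSL (hF : Big F) {A : SL (Fin (n + 1)) F} (h : n = 0 ∨ A ∉ Subgroup.center _) :
    ∃ x y, A = slConj _ F x (jSL _ F) * slConj _ F y (jSL _ F) := by
  rcases Nat.eq_zero_or_pos n with rfl | hn
  · refine ⟨1, 1, Subtype.ext (Matrix.ext fun a b => ?_)⟩
    have : ∀ B : SL (Fin (0 + 1)) F, B.1 a b = 1 := fun B => by
      fin_cases a; fin_cases b; exact (det_fin_one B.1).symm.trans B.2
    rw [this, this]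
  have hS : ¬ ∃ c : F, ∀ y, toLin' A.1 y = c • y := fun ⟨c, hc⟩ => h.resolve_left hn.ne' (by
    have : A.1 = scalar _ c := toLin'.injective (LinearMap.ext fun y => by rw [hc]; ext; simp [mulVec_diagonal])
    exact Subgroup.mem_center_iff.2 fun g => Subtype.ext (by
      rw [sl_coe_mul, sl_coe_mul, this]; exact (scalar_commute c (fun _ => Commute.all _ _) _).symm.eq))
  have hd : LinearMap.det (toLin' A.1) = 1 := by rw [LinearMap.det_toLin', A.2]
  obtain ⟨B, C, h, hB, hC⟩ : ∃ B C, toLin' A.1 = B * C ∧ Reg B ∧ Reg C := by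
    rcases Nat.lt_or_ge 1 n with h1 | h1
    · exact two_reg hF (by simp; omega) reg_jSL hd hS
    by_cases hr : Rk1 (toLin' A.1)
    · obtain ⟨f, w, h0, hf⟩ := sq_of_rk1 hr hd
      have hw : w ≠ 0 := fun h => hS ⟨1, fun y => by simp [hf, h]⟩
      have hf0 : f ≠ 0 := fun h => hS ⟨1, fun y => by simp [hf, h]⟩
      have key : ∀ a : F, a ≠ 0 → Reg (1 + a • f.smulRight w : Module.End F _) := fun a ha => by
        rw [Reg, add_sub_cancel_left]
        refine ⟨⟨2, LinearMap.ext fun y => by simp [pow_two, h0]⟩, ?_⟩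
        have := Module.Dual.finrank_ker_add_one_of_ne_zero hf0
        rw [show LinearMap.ker (a • f.smulRight w) = LinearMap.ker f by ext; simp [ha, hw]]
        simp at this; omega
      obtain ⟨a, a0, a1, -⟩ := hF 0 1 1
      refine ⟨_, _, LinearMap.ext fun y => ?_, key a a0, key (1 - a) (sub_ne_zero.2 a1.symm)⟩
      simp only [hf, Module.End.mul_apply, LinearMap.add_apply, Module.End.one_apply, LinearMap.smul_apply,
        LinearMap.smulRight_apply, map_add, map_smul, h0]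
      module
    · obtain ⟨ψ, hz, -⟩ := Submodule.exists_le_ker_of_notMem (p := (⊥ : Submodule F (Fin (n + 1) → F))) (v := 1) one_ne_zero
      exact (lev hF n _ (by simp) _ hd (fun _ => ⟨hS, hr⟩) 1 one_ne_zero ψ (fun h => hz (by rw [h]; rfl))).reg
  obtain ⟨B, rfl⟩ := toLin'.surjective B
  obtain ⟨C, rfl⟩ := toLin'.surjective C
  obtain ⟨x, hx⟩ := sim_toLin'_iff.1 (reg_jSL.sim hB rfl)
  obtain ⟨y, hy⟩ := sim_toLin'_iff.1 (reg_jSL.sim hC rfl)
  refine ⟨x, y, Subtype.ext ?_⟩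
  rw [sl_coe_mul, coe_slConj, coe_slConj, hx, hy, Units.mul_inv_cancel_right, Units.mul_inv_cancel_right]
  exact toLin'.injective (by rw [h, toLin'_mul]; rfl)

theorem exists_sl_mul_diag (x : GL (Fin (n + 1)) F) :
    ∃ (s : SL (Fin (n + 1)) F) (d : Fˣ), x = s.toGL * glDiag _ F (Pi.mulSingle 0 d) := by
  refine ⟨⟨(x * (glDiag _ F (Pi.mulSingle 0 x.det))⁻¹ :), ?_⟩, x.det, ?_⟩
  · rw [← map_inv, Units.val_mul, det_mul, coe_glDiag, det_diagonal, Finset.prod_eq_single 0 (by simp +contextual) (by simp)]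
    simpa using mul_inv_cancel₀ x.det_ne_zero
  · exact eq_mul_of_mul_inv_eq (Units.ext rfl)

end Cfsg.Lib.Chev
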