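/-
Element orders in the groups of types F4 and ²F4.
-/
import Cfsg.Agent.Lib.Chev.F4Ord
import Cfsg.Agent.Lib.Twist.TwF4

set_option autoImplicit false

namespace Cfsg.Lib.Chev

open Subgroup Function Cfsg.Lie Cfsg.Lib.Twist

universe u

theorem Fam.Red.exists_simple_fix {I Φ : Type} [Fintype I] [DecidableEq I] [Finite Φ] {R : RootSys I Φ} {X : Fam.{u} R} (hX : X.Red) (p : ℕ)
    [hp : Fact p.Prime] {k : Type u} [Field k] [IsAlgClosed k] [CharP k p] (hC : (X.S k).SC) (hk : ∀ t : k, ∃ e, 0 < e ∧ t ^ p ^ e = t)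
    (θ : X.G k →* X.G k) {τ : (I → kˣ) → I → kˣ} (hτ : ∀ c, θ ((X.st k).tor (X.mult k) c) = (X.st k).tor (X.mult k) (τ c))
    {g : X.G k} (hg : θ g = g) {s : ℕ} (hs : s.Coprime p) (h : orderOf g = s * p) : ∃ (ζ : kˣ) (y : I → ℤ) (i : I) (w : R.W),
      (orderOf fun i => ζ ^ y i) = s ∧ (orderOf ζ : ℤ) ∣ R.ev (R.simple i) y ∧ (fun i => ζ ^ R.aw w y i) = τ fun i => ζ ^ y i := by
  obtain ⟨ζ, y, u, -, h2, ⟨j, h3⟩, h4, h5, h6⟩ := hX.exists_jordan_fix p hC hk θ hg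
  rw [h, h3] at h5
  have h7 : (orderOf fun i => ζ ^ y i) = s := Nat.dvd_antisymm (h4.dvd_of_dvd_mul_right ⟨_, h5⟩)
    ((hs.pow_right j).dvd_of_dvd_mul_right ⟨_, h5.symm⟩)
  obtain ⟨r, hr⟩ : Set.Nonempty {r | R.Pos r ∧ (orderOf ζ : ℤ) ∣ R.ev r y} := Set.nonempty_iff_ne_empty.2 fun h0 => by
    rw [h0, PreSys.U_empty, mem_bot] at h2
    rw [← h3, h2, orderOf_one, mul_one] at h5
    exact hp.out.one_lt.ne' (h4.symm.eq_one_of_dvd ⟨s, by rw [← h5, mul_comm]⟩)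
  obtain ⟨v, hv, i, rfl⟩ := R.exists_W_simple r
  have h8 := ((X.st k).isConj_tor_iff (X.mult k) (X.sep k) (X.opp k) (X.gen k) hC).2 ⟨⟨_, inv_mem hv⟩, R.cw_zpow _ ζ y⟩
  have h9 := h8.symm.trans (h6.trans (θ.map_isConj h8))
  rw [hτ, (X.st k).isConj_tor_iff (X.mult k) (X.sep k) (X.opp k) (X.gen k) hC] at h9
  obtain ⟨w, hw⟩ := h9
  obtain ⟨a, ha⟩ := isConj_iff.1 h8
  refine ⟨ζ, R.aw v⁻¹ y, i, w, ?_, ?_, (R.cw_zpow _ _ _).symm.trans hw⟩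
  · rw [← h7, ← orderOf_injective _ ((X.st k).tor_inj (X.mult k) hC) (fun i => ζ ^ y i), ← orderOf_injective _ ((X.st k).tor_inj (X.mult k) hC), ← ha]
    exact (MulAut.conj a).orderOf_eq _
  · have := R.ev_aw (inv_mem hv) (v (R.simple i)) y
    rw [Equiv.Perm.inv_def, Equiv.symm_apply_apply] at this
    exact this ▸ hr.2

theorem Fam.Red.exists_data' {I Φ : Type} [Fintype I] [DecidableEq I] [Finite Φ] {R : RootSys I Φ} {X : Fam.{u} R} (hX : X.Red) (p : ℕ)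
    [hp : Fact p.Prime] {K : Type u} [Field K] [Fintype K] [CharP K p] (hC : (X.S (AlgebraicClosure K)).SC) (g : X.G K) {s : ℕ} (hs : s.Coprime p)
    (h : orderOf g = s * p) : ∃ (n : ℕ) (y : I → ℤ) (i : I) (w : R.W), (∀ m : ℕ, s ∣ m ↔ ∀ i, (n : ℤ) ∣ m * y i) ∧
      (n : ℤ) ∣ R.ev (R.simple i) y ∧ ∀ i, (n : ℤ) ∣ R.aw w y i - Fintype.card K * y i := by
  obtain ⟨e, -, he⟩ := FiniteField.card K p
  obtain ⟨ζ, y, i, w, h1, h2, h3⟩ := hX.exists_simple_fix p hC (algClosure_pow K p) _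
    (X.map_tor _) (X.fr_map p he (algebraMap K _) g) hs ((orderOf_injective _ (X.inj _) g).trans h)
  refine ⟨_, y, i, w, fun m => h1 ▸ orderOf_zpow_dvd, h2, fun i => zpow_eq_zpow_iff.1 ?_⟩
  rw [congrFun h3 i, mul_comm, zpow_mul, he, zpow_natCast]
  exact Units.ext (by rw [Units.coe_map, Units.val_pow_eq_pow_val]; rfl)

theorem Compat.exists_tw_fix {D : ChevalleyDatum} {R : RootSys (Fin D.rank) (Fin D.nroots)} (hc : Compat D R) {η : ℕ → ℕ → ℤ} (hm : MatOK D η)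
    (p : ℕ) [hp : Fact p.Prime] {k : Type u} [Field k] [IsAlgClosed k] [CharP k p] (hC : (hc.gsys hm k).SC) (hk : ∀ t : k, ∃ e, 0 < e ∧ t ^ p ^ e = t)
    {T : Tw R} (Z : TwSys (hc.gsys hm k) T) {g : D.group k} (hg : Z.σ g = g) {s : ℕ} (hs : s.Coprime p) (h : orderOf g = s * p) :
    ∃ (ζ : kˣ) (y : Fin D.rank → ℤ) (i : Fin D.rank) (w : R.W), (∀ m : ℕ, s ∣ m ↔ ∀ i, (orderOf ζ : ℤ) ∣ m * y i) ∧
      (orderOf ζ : ℤ) ∣ R.ev (R.simple i) y ∧ ∀ i, ((ζ ^ R.aw w y (T.π i) : kˣ) : k) = Z.φ (R.simple i) (ζ ^ y i : kˣ) := by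
  obtain ⟨ζ, y, i, w, a1, a2, a3⟩ := Fam.Red.exists_simple_fix (hc.adFam_red hm) p hC hk Z.σ (τ := Z.τ)
    (fun c => Z.σ_torus (Finset.nodup_toList _) (by simp) c) hg hs h
  exact ⟨ζ, y, i, w, fun m => a1 ▸ orderOf_zpow_dvd, a2, fun i => by rw [congrFun a3, Z.τ_apply]⟩

namespace F4

open V4

/-- The coordinates. -/
def vec (y : Fin chevF4.rank → ℤ) : V4 := ⟨y (nF 0), y (nF 1), y (nF 2), y (nF 3)⟩

theorem forall_iff {P : Fin chevF4.rank → Prop} : (∀ i, P i) ↔ P (nF 0) ∧ P (nF 1) ∧ P (nF 2) ∧ P (nF 3) :=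
  ⟨fun h => ⟨h _, h _, h _, h _⟩, fun h i => by fin_cases i; exacts [h.1, h.2.1, h.2.2.1, h.2.2.2]⟩

theorem aw_eq {w : Equiv.Perm (Fin chevF4.nroots)} {ρ : ℕ → ℕ} (h : ∀ i, (w (RF4.simple i) : ℕ) = ρ i) (y : Fin chevF4.rank → ℤ) :
    vec (RF4.aw w y) = ⟨(mat ρ).a.dot (vec y), (mat ρ).b.dot (vec y), (mat ρ).c.dot (vec y), (mat ρ).d.dot (vec y)⟩ := by
  have : ∀ i, RF4.aw w y i = aN coF4 (ρ 0) i * y (nF 0) + aN coF4 (ρ 1) i * y (nF 1) + aN coF4 (ρ 2) i * y (nF 2) + aN coF4 (ρ 3) i * y (nF 3) := fun i => by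
    rw [RootSys.aw, Finset.sum_congr rfl fun k _ => by rw [show RF4.co _ _ = _ from (co_eq_aN rootOK_F4 chkCW_F4 _ _).1, h]]; exact Fin.sum_univ_four _
  simp only [vec, this]; rfl

theorem ev_eq (r : Fin chevF4.nroots) (y : Fin chevF4.rank → ℤ) : RF4.ev r y = (wt r).dot (vec y) := by
  rw [RootSys.ev, Finset.sum_congr rfl fun k _ => by rw [show RF4.wr _ _ = _ from (co_eq_aN rootOK_F4 chkCW_F4 _ _).2]]; exact Fin.sum_univ_four _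

theorem exists_mat {w : Equiv.Perm (Fin chevF4.nroots)} (hw : w ∈ RF4.W) : ∃ c M, ck₁ c M = true ∧ ck₂ (tw M) = true ∧
    ∀ y, vec (RF4.aw w y) = ⟨M.a.dot (vec y), M.b.dot (vec y), M.c.dot (vec y), M.d.dot (vec y)⟩ :=
  let ⟨e, he, h⟩ := compat_F4.exists_enum (sig_of_chkLight _ _ chkLight_F4) enum hw
  ⟨_, _, allLt_spec chk₁ e he, allLt_spec chk₂ e he, aw_eq h⟩

theorem dvd_of_z {n : ℤ} {y : Fin chevF4.rank → ℤ} {d : ℕ} (hd : ∀ m : ℕ, d ∣ m ↔ ∀ i, n ∣ m * y i) (m : ℤ) (hm : Z n m (vec y)) : (d : ℤ) ∣ m :=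
  Int.natCast_dvd.2 ((hd _).2 fun i => by
    rcases Int.natAbs_eq_iff.1 (rfl : m.natAbs = _) with h | h
    · exact h ▸ forall_iff (P := fun i => n ∣ m * y i).2 hm i
    · exact dvd_of_eq' (dvd_neg.2 (forall_iff (P := fun i => n ∣ m * y i).2 hm i)) (by rw [← neg_mul, neg_eq_iff_eq_neg.2 h]))

theorem cases₂ {n e : ℤ} {y : Fin chevF4.rank → ℤ} {w : RF4.W} (h : n ∣ RF4.aw w y (nF 3) - 2 * e * y (nF 0) ∧ n ∣ RF4.aw w y (nF 2) - 2 * e * y (nF 1) ∧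
    n ∣ RF4.aw w y (nF 1) - e * y (nF 2) ∧ n ∣ RF4.aw w y (nF 0) - e * y (nF 3)) {d : ℕ} (hd : ∀ m : ℕ, d ∣ m ↔ ∀ i, n ∣ m * y i)
    {i : Fin chevF4.rank} (hi : n ∣ RF4.ev (RF4.simple i) y) : (d : ℤ) ∣ (2 * e) ^ 8 - 16 ∨ d ∣ 48 := by
  obtain ⟨c, M, -, h1, h2⟩ := exists_mat w.2
  have h3 : Eig n (2 * e) (tw M) (vec y) := by
    have := h2 y
    simp only [vec, V4.mk.injEq] at this
    rw [this.1, this.2.1, this.2.2.1, this.2.2.2] at h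
    exact ⟨h.1, h.2.1, dvd_of_eq' (h.2.2.1.mul_left 2) (by simp only [tw, dot, vec]; ring), dvd_of_eq' (h.2.2.2.mul_left 2) (by simp only [tw, dot, vec]; ring)⟩
  simp only [ck₂, decide_eq_true_eq, Bool.or_eq_true, allLt_iff] at h1
  rw [ev_eq, compat_F4.simple_eq] at hi
  exact h1.imp (fun h => dvd_of_eq' (dvd_of_z hd _ ((((h3.mm h3).mm (h3.mm h3)).mm ((h3.mm h3).mm (h3.mm h3))).sc h)))
    fun h => by exact_mod_cast (dvd_of_z hd _ (h3.idx hi)).trans (h i i.2)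

theorem twisted_dvd {K : Type u} [Field K] [Fintype K] {m : ℕ} (hK : Fintype.card K = 2 ^ (2 * m + 1)) (g : twistedF4 K (2 ^ m)) {s : ℕ}
    (hs : s.Coprime 2) (h : orderOf g = s * 2) : (s : ℤ) ∣ (2 * 2 ^ m) ^ 8 - 16 ∨ s ∣ 48 := by
  obtain ⟨d⟩ := exists_F4Data hK
  have := d.char
  have hc := rootOK_F4.compat
  obtain ⟨T, h1, h2, -, -, -, h3⟩ := exists_tw_special.{u} rootOK_F4 matOK_F4 d.π_val chkS_F4
  obtain rfl : T = d.T := tw_ext (Equiv.ext fun r => Fin.ext (by rw [h2, d.ρ_val])) h1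
  obtain ⟨X, h4, h5⟩ := h3 (AlgebraicClosure K) (iterateFrobeniusEquiv _ 2 m)
  have h6 : X.σ.comp (baseExt chevF4 (algebraMap K _)) = (baseExt chevF4 (algebraMap K _)).comp d.X.σ := PreSys.hom_ext (hc.ggen matOK_F4) fun r t => by
    simp only [MonoidHom.comp_apply, hc.baseExt_x matOK_F4, X.σ_x, d.X.σ_x, h4, h5, d.ε_eq, d.φ_eq, one_mul, map_pow, iterateFrobeniusEquiv_def]
  have h7 : Subgroup.inclusion d.gen.1 g ∈ d.X.Fix := d.eq_Fix.le g.2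
  have h8 : X.σ (baseExt chevF4 (algebraMap K _) (Subgroup.inclusion d.gen.1 g)) = baseExt chevF4 (algebraMap K _) (Subgroup.inclusion d.gen.1 g) :=
    (DFunLike.congr_fun h6 _).trans (congrArg (baseExt chevF4 (algebraMap K _)) h7)
  have h9 := (orderOf_injective _ (baseExt_injective (algebraMap K (AlgebraicClosure K))) _).trans
    ((orderOf_injective _ (Subgroup.inclusion_injective d.gen.1) g).trans h)
  obtain ⟨ζ, y, i, w, a1, a2, a3⟩ := hc.exists_tw_fix matOK_F4 2 (hc.gsc matOK_F4 (by simp) _) (algClosure_pow K 2) X h8 hs h9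
  have a4 : ∀ (i j : Fin chevF4.rank) (k : ℕ), d.T.π i = j → lk tabF4.L (lk rhoF4 (chevF4.simple i)) = k →
      (orderOf ζ : ℤ) ∣ rootOK_F4.R.aw w y j - k * 2 ^ m * y i := fun i j k h h' => zpow_eq_zpow_iff.1 (Units.ext (by
    rw [← h, a3, h5, hc.simple_eq, h', iterateFrobeniusEquiv_def, ← pow_mul, mul_comm _ (y i), zpow_mul, mul_comm]
    norm_cast))
  exact cases₂ (w := w) ⟨a4 _ _ 2 d.p0 (by decide +kernel), a4 _ _ 2 d.p1 (by decide +kernel), by simpa [RF4] using a4 _ _ 1 d.p2 (by decide +kernel),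
    by simpa [RF4] using a4 _ _ 1 d.p3 (by decide +kernel)⟩ a1 a2

theorem cases₁ {n q : ℤ} {y : Fin chevF4.rank → ℤ} {w : RF4.W} (h : ∀ i, n ∣ RF4.aw w y i - q * y i) {d : ℕ} (hd : ∀ m : ℕ, d ∣ m ↔ ∀ i, n ∣ m * y i) :
    ((d : ℤ) ∣ (q ^ 3 - 1) * (q + 1) ∨ (d : ℤ) ∣ (q ^ 3 + 1) * (q - 1) ∨ (d : ℤ) ∣ (q ^ 2 - 1) * (q ^ 2 + 1)) ∨
      ((d : ℤ) ∣ q ^ 4 + 1 ∨ (d : ℤ) ∣ q ^ 4 - q ^ 2 + 1) ∧ ∀ i, n ∣ RF4.ev (RF4.simple i) y → d ∣ 8 := by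
  obtain ⟨c, M, h1, -, h2⟩ := exists_mat w.2
  have h3 : Eig n q M (vec y) := by
    have := h2 y
    simp only [vec, V4.mk.injEq] at this
    rwa [forall_iff, this.1, this.2.1, this.2.2.1, this.2.2.2] at h
  have h4 := dvd_of_z hd
  simp only [ck₁, Bool.and_eq_true, decide_eq_true_eq, Bool.or_eq_true, Nat.blt_eq, allLt_iff] at h1
  obtain ⟨⟨h5, h6⟩, h7⟩ := h1
  have h8 := h4 _ (((((h3.mm h3).ml _ h3).ml _ (show Eig n 1 (sc 1) (vec y) by simp [Eig, sc, dot])).mm (h3.mm h3)).ml _ h3 |>.sc h6)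
  have h9 : 3 ≤ c → ∀ i, n ∣ RF4.ev (RF4.simple i) y → d ∣ 8 := fun hc i hi => by
    rw [ev_eq, compat_F4.simple_eq] at hi
    exact_mod_cast (h4 _ (h3.idx hi)).trans (h7.resolve_left (by omega) i i.2)
  interval_cases c
  exacts [.inl (.inl (dvd_of_eq' h8 (by simp [pol, tab]; ring))), .inl (.inr (.inl (dvd_of_eq' h8 (by simp [pol, tab]; ring)))),
    .inl (.inr (.inr (dvd_of_eq' h8 (by simp [pol, tab]; ring)))), .inr ⟨.inl (dvd_of_eq' h8 (by simp [pol, tab]; ring)), h9 le_rfl⟩,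
    .inr ⟨.inr (dvd_of_eq' h8 (by simp [pol, tab]; ring)), h9 (by omega)⟩]

variable {K : Type u} [Field K] [Fintype K] (p : ℕ) [hp : Fact p.Prime] [CharP K p]
include hp

theorem dvd_of_coprime (g : chevF4.group K) (h : (orderOf g).Coprime p) {q : ℤ} (hq : q = Fintype.card K) : (orderOf g : ℤ) ∣ (q ^ 3 - 1) * (q + 1) ∨
    (orderOf g : ℤ) ∣ (q ^ 3 + 1) * (q - 1) ∨ (orderOf g : ℤ) ∣ (q ^ 2 - 1) * (q ^ 2 + 1) ∨ (orderOf g : ℤ) ∣ q ^ 4 + 1 ∨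
      (orderOf g : ℤ) ∣ q ^ 4 - q ^ 2 + 1 := by
  obtain ⟨n, d, y, w, u, -, h1, -, ⟨j, h2⟩, h3, -, h4⟩ := compat_F4.exists_data matOK_F4 p (compat_F4.gsc matOK_F4 (by simp) _) g
  have := cases₁ (hq ▸ h1) h3
  rw [h4, Nat.Coprime.eq_one_of_dvd (h2 ▸ h.pow_right j).symm ⟨_, h4.trans (mul_comm _ _)⟩, mul_one]
  tauto

theorem dvd_of_mul (g : chevF4.group K) {s : ℕ} (hs : s.Coprime p) (h : orderOf g = s * p) {q : ℤ} (hq : q = Fintype.card K) :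
    ((s : ℤ) ∣ (q ^ 3 - 1) * (q + 1) ∨ (s : ℤ) ∣ (q ^ 3 + 1) * (q - 1) ∨ (s : ℤ) ∣ (q ^ 2 - 1) * (q ^ 2 + 1)) ∨ s ∣ 8 := by
  obtain ⟨n, y, i, w, h1, h2, h3⟩ := Fam.Red.exists_data' (compat_F4.adFam_red matOK_F4) p (compat_F4.gsc matOK_F4 (by simp) _) g hs h
  exact (cases₁ (hq ▸ h3) h1).imp_right fun h => h.2 i h2

theorem exists_cochar (l : List (Fin 4)) (M : M4) (hM : mat (fun i => (l.map Fin.val).foldr chevF4.reflectRoot (chevF4.simple i)) = M) {r : ℕ}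
    (hr : r.Coprime p) {f : ℤ} (hf : (r : ℤ) ∣ f) {q : ℤ} (hq : q = Fintype.card K) (y : V4) (hy : y.a = 1 ∨ y.b = 1) (k : V4)
    (h : q * M.a.dot y - y.a = f * k.a ∧ q * M.b.dot y - y.b = f * k.b ∧ q * M.c.dot y - y.c = f * k.c ∧ q * M.d.dot y - y.d = f * k.d) :
    ∃ c : Fin chevF4.rank → (AlgebraicClosure K)ˣ, orderOf c = r ∧ RF4.cw (RF4.wprod l) c ^ Fintype.card K = c ∧
      ∀ s : Fin chevF4.nroots, (wt s).dot y = 0 → evw (RF4.wr s) c = 1 := by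
  have h1 := aw_eq (ρ := fun i => (l.map Fin.val).foldr chevF4.reflectRoot (chevF4.simple i)) (fun i => (compat_F4.wprod_val l _).trans (by rw [compat_F4.simple_eq]; rfl)) (![y.a, y.b, y.c, y.d] : Fin 4 → ℤ)
  rw [hM] at h1
  simp only [vec, V4.mk.injEq] at h1
  obtain ⟨c, h2, h3, h4⟩ := Fam.exists_cochar (K := K) (R := RF4) p hr (y := (![y.a, y.b, y.c, y.d] : Fin 4 → ℤ)) (fun m hm => by
    rcases hy with hy | hy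
    exacts [by simpa [nF, hy, Int.natCast_dvd_natCast] using hm (nF 0), by simpa [nF, hy, Int.natCast_dvd_natCast] using hm (nF 1)])
    (w := RF4.wprod l) (forall_iff.2 (by
      rw [h1.1, h1.2.1, h1.2.2.1, h1.2.2.2, ← hq]
      exact ⟨hf.trans ⟨_, h.1⟩, hf.trans ⟨_, h.2.1⟩, hf.trans ⟨_, h.2.2.1⟩, hf.trans ⟨_, h.2.2.2⟩⟩))
  exact ⟨c, h2, h3, fun s hs => h4 s (dvd_of_eq' (dvd_zero _) (hs.symm.trans (ev_eq s (![y.a, y.b, y.c, y.d] : Fin 4 → ℤ)).symm))⟩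

theorem exists_mul (l : List (Fin 4)) {f : ℤ} (h : ∀ r : ℕ, r.Prime → r.Coprime p → (r : ℤ) ∣ f → ∃ c : Fin chevF4.rank → (AlgebraicClosure K)ˣ,
    orderOf c = r ∧ RF4.cw (RF4.wprod l) c ^ Fintype.card K = c ∧ ∀ s : Fin chevF4.nroots, False → evw (RF4.wr s) c = 1) {r s : ℕ} (hr : r.Prime)
    (hs : s.Prime) (hrs : r ≠ s) (h1 : (r * s).Coprime p) (h2 : (r : ℤ) ∣ f ∧ (s : ℤ) ∣ f) : ∃ g : chevF4.group K, orderOf g = r * s := by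
  obtain ⟨c, rfl, h3, -⟩ := h r hr h1.coprime_mul_right h2.1
  obtain ⟨c', rfl, h2, -⟩ := h s hs h1.coprime_mul_left h2.2
  rw [← (Commute.all c c').orderOf_mul_eq_mul_orderOf_of_coprime ((Nat.coprime_primes hr hs).2 hrs)]
  exact (compat_F4.exists_orderOf matOK_F4 p (compat_F4.gsc matOK_F4 (by simp) _) (RF4.wprod_mem_W l) (by rw [map_mul, mul_pow, h3, h2])).1

theorem exists_of_dvd {r s : ℕ} (hr : r.Prime) (hs : s.Prime) (hrs : r ≠ s) (h1 : (r * s).Coprime p) {q : ℤ} (hq : q = Fintype.card K) :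
    ∀ f ∈ [(q ^ 3 - 1) * (q + 1), (q ^ 3 + 1) * (q - 1), (q ^ 2 - 1) * (q ^ 2 + 1), q ^ 4 + 1, q ^ 4 - q ^ 2 + 1], (r : ℤ) ∣ f ∧ (s : ℤ) ∣ f → ∃ g : chevF4.group K, orderOf g = r * s := by
  simp only [List.mem_cons, List.not_mem_nil, or_false]
  rintro _ (rfl | rfl | rfl | rfl | rfl)
  · refine exists_mul p [0, 1, 2, 3, 1, 2, 0, 1, 0] (fun r h hr hf => ?_) hr hs hrs h1
    rcases (Nat.prime_iff_prime_int.1 h).dvd_or_dvd hf with hf | hf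
    · exact (exists_cochar p [0, 1, 2, 3, 1, 2, 0, 1, 0] ⟨⟨-1, -1, 1, 0⟩, ⟨-1, -2, 2, 0⟩, ⟨-2, -2, 2, 1⟩, ⟨-2, 0, 1, 0⟩⟩ (by decide +kernel) hr hf hq
      ⟨1, 2 + q, 3 + q + q ^ 2, 1 + q + q ^ 2⟩ (.inl rfl) ⟨1, 2, 3, 1⟩ (by simp only [dot]; refine ⟨?_, ?_, ?_, ?_⟩ <;> ring)).imp fun _ h => ⟨h.1, h.2.1, fun _ => False.elim⟩
    · exact (exists_cochar p [0, 1, 2, 3, 1, 2, 0, 1, 0] ⟨⟨-1, -1, 1, 0⟩, ⟨-1, -2, 2, 0⟩, ⟨-2, -2, 2, 1⟩, ⟨-2, 0, 1, 0⟩⟩ (by decide +kernel) hr hf hq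
      ⟨1, 1, 1, 1⟩ (.inl rfl) ⟨-1, -1, -1, -1⟩ (by simp only [dot]; refine ⟨?_, ?_, ?_, ?_⟩ <;> ring)).imp fun _ h => ⟨h.1, h.2.1, fun _ => False.elim⟩
  · refine exists_mul p [3, 2, 1, 2, 0] (fun r h hr hf => ?_) hr hs hrs h1
    rcases (Nat.prime_iff_prime_int.1 h).dvd_or_dvd hf with hf | hf
    · exact (exists_cochar p [3, 2, 1, 2, 0] ⟨⟨-1, 1, 0, 0⟩, ⟨-1, 2, -1, 1⟩, ⟨-2, 2, -1, 2⟩, ⟨-2, 2, -1, 1⟩⟩ (by decide +kernel) hr hf hq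
      ⟨1, 1 - q ^ 2, 2 - 2 * q ^ 2, 1 - q - q ^ 2⟩ (.inl rfl) ⟨-1, -1, -2, -1⟩ (by simp only [dot]; refine ⟨?_, ?_, ?_, ?_⟩ <;> ring)).imp fun _ h => ⟨h.1, h.2.1, fun _ => False.elim⟩
    · exact (exists_cochar p [3, 2, 1, 2, 0] ⟨⟨-1, 1, 0, 0⟩, ⟨-1, 2, -1, 1⟩, ⟨-2, 2, -1, 2⟩, ⟨-2, 2, -1, 1⟩⟩ (by decide +kernel) hr hf hq
      ⟨1, 2, 2, 1⟩ (.inl rfl) ⟨1, 2, 2, 1⟩ (by simp only [dot]; refine ⟨?_, ?_, ?_, ?_⟩ <;> ring)).imp fun _ h => ⟨h.1, h.2.1, fun _ => False.elim⟩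
  · refine exists_mul p [3, 2, 0, 1, 2, 1, 0] (fun r h hr hf => ?_) hr hs hrs h1
    rcases (Nat.prime_iff_prime_int.1 h).dvd_or_dvd hf with hf | hf
    · exact (exists_cochar p [3, 2, 0, 1, 2, 1, 0] ⟨⟨-1, 0, 0, 1⟩, ⟨-2, 1, 0, 1⟩, ⟨-2, 2, -1, 2⟩, ⟨-2, 2, -1, 1⟩⟩ (by decide +kernel) hr hf hq
      ⟨1, 2 + q, 2 + 2 * q, 1 + q⟩ (.inl rfl) ⟨1, 2, 2, 1⟩ (by simp only [dot]; refine ⟨?_, ?_, ?_, ?_⟩ <;> ring)).imp fun _ h => ⟨h.1, h.2.1, fun _ => False.elim⟩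
    · exact (exists_cochar p [3, 2, 0, 1, 2, 1, 0] ⟨⟨-1, 0, 0, 1⟩, ⟨-2, 1, 0, 1⟩, ⟨-2, 2, -1, 2⟩, ⟨-2, 2, -1, 1⟩⟩ (by decide +kernel) hr hf hq
      ⟨1, 1, 2, 1 - q⟩ (.inl rfl) ⟨-1, -1, -2, -1⟩ (by simp only [dot]; refine ⟨?_, ?_, ?_, ?_⟩ <;> ring)).imp fun _ h => ⟨h.1, h.2.1, fun _ => False.elim⟩
  · refine exists_mul p [3, 2, 1, 2, 1, 0] (fun r h hr hf => ?_) hr hs hrs h1
    exact (exists_cochar p [3, 2, 1, 2, 1, 0] ⟨⟨-1, 1, 0, 0⟩, ⟨-2, 1, 0, 1⟩, ⟨-2, 2, -1, 2⟩, ⟨-2, 2, -1, 1⟩⟩ (by decide +kernel) hr hf hq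
      ⟨1, 1 - q ^ 3, 1 + q - q ^ 2 - q ^ 3, 1 - q ^ 2⟩ (.inl rfl) ⟨-1, -1, -1, -1⟩ (by simp only [dot]; refine ⟨?_, ?_, ?_, ?_⟩ <;> ring)).imp fun _ h => ⟨h.1, h.2.1, fun _ => False.elim⟩
  · refine exists_mul p [3, 2, 1, 0] (fun r h hr hf => ?_) hr hs hrs h1
    exact (exists_cochar p [3, 2, 1, 0] ⟨⟨-1, 1, 0, 0⟩, ⟨-1, 0, 1, 0⟩, ⟨-2, 0, 1, 1⟩, ⟨-2, 0, 1, 0⟩⟩ (by decide +kernel) hr hf hq
      ⟨1, 1 + q - q ^ 3, 2 + q - q ^ 2 - q ^ 3, 1 - q ^ 3⟩ (.inl rfl) ⟨-1, -1, -2, -1⟩ (by simp only [dot]; refine ⟨?_, ?_, ?_, ?_⟩ <;> ring)).imp fun _ h => ⟨h.1, h.2.1, fun _ => False.elim⟩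

theorem exists_of_dvd' {r : ℕ} (hr : r.Coprime p) {q : ℤ} (hq : q = Fintype.card K) (h : (r : ℤ) ∣ q ^ 3 - 1 ∨ (r : ℤ) ∣ q ^ 3 + 1 ∨ (r : ℤ) ∣ q ^ 2 + 1) :
    ∃ g : chevF4.group K, orderOf g = r * p := by
  have key : ∀ (l : List (Fin 4)) (s : Fin 48) (y : V4), (l.map Fin.val).foldr chevF4.reflectRoot s = s → (wt s).dot y = 0 →
      (∃ c : Fin chevF4.rank → (AlgebraicClosure K)ˣ, orderOf c = r ∧ RF4.cw (RF4.wprod l) c ^ Fintype.card K = c ∧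
      ∀ s : Fin chevF4.nroots, (wt s).dot y = 0 → evw (RF4.wr s) c = 1) → ∃ g : chevF4.group K, orderOf g = r * p := by
    rintro l s y h1 h2 ⟨c, rfl, h3, h4⟩
    exact (compat_F4.exists_orderOf matOK_F4 p (compat_F4.gsc matOK_F4 (by simp) _) (RF4.wprod_mem_W l) h3).2 s
      (Fin.ext ((compat_F4.wprod_val l _).trans h1)) (h4 s h2) hr
  rcases h with hf | hf | hf
  · exact key [1, 0] 47 _ (by decide +kernel) (by rw [show wt (47 : Fin 48) = ⟨0, 0, 0, 1⟩ by decide +kernel]; simp [dot]) (exists_cochar p [1, 0] ⟨⟨-1, 1, 0, 0⟩, ⟨-1, 0, 1, 0⟩, ⟨0, 0, 1, 0⟩, ⟨0, 0, 0, 1⟩⟩ (by decide +kernel) hr hf hq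
      ⟨1, 1 + q ^ 2, 1 + q + q ^ 2, 0⟩ (.inl rfl) ⟨1, 1, 1, 0⟩ (by simp only [dot]; refine ⟨?_, ?_, ?_, ?_⟩ <;> ring))
  · exact key [2, 1, 0] 47 _ (by decide +kernel) (by rw [show wt (47 : Fin 48) = ⟨0, 0, 0, 1⟩ by decide +kernel]; simp [dot]) (exists_cochar p [2, 1, 0] ⟨⟨-1, 1, 0, 0⟩, ⟨-1, 0, 1, 0⟩, ⟨-2, 0, 1, 1⟩, ⟨0, 0, 0, 1⟩⟩ (by decide +kernel) hr hf hq
      ⟨1, 1 - q ^ 2, 1 - q - q ^ 2, 0⟩ (.inl rfl) ⟨-1, -1, -1, 0⟩ (by simp only [dot]; refine ⟨?_, ?_, ?_, ?_⟩ <;> ring))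
  · exact key [2, 1] 29 _ (by decide +kernel) (by rw [show wt (29 : Fin 48) = ⟨-1, 0, 0, 1⟩ by decide +kernel]; simp [dot]) (exists_cochar p [2, 1] ⟨⟨1, 0, 0, 0⟩, ⟨1, -1, 1, 0⟩, ⟨2, -2, 1, 1⟩, ⟨0, 0, 0, 1⟩⟩ (by decide +kernel) hr hf hq
      ⟨0, 1, 1 - q, 0⟩ (.inr rfl) ⟨0, -1, -1, 0⟩ (by simp only [dot]; refine ⟨?_, ?_, ?_, ?_⟩ <;> ring))

end F4

end Cfsg.Lib.Chev
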