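/-
Element orders in the Chevalley groups of type G2.
-/
import Cfsg.Agent.Lib.Chev.Rep

set_option autoImplicit false

namespace Cfsg.Lib.Chev

open Subgroup Function Cfsg.Lie Cfsg.Lib.Twist Matrix

universe u

/-- Data. -/
def colG7 : ℕ → ℕ → List (ℕ × ℤ × ℕ) := tab2 [[[(5, -1, 1)], [(6, -1, 1)], [], [], [], [], []], [[(4, 1, 1)], [], [(6, -1, 1)], [], [], [], []], [[(3, -1, 1), (6, 1, 2)], [(4, 1, 1)], [(5, 1, 1)], [(6, -2, 1)], [], [], []], [[(2, -1, 1)], [(3, 1, 1), (5, -1, 2)], [], [(5, -2, 1)], [(6, 1, 1)], [], []], [[(1, 1, 1)], [], [(3, 1, 1), (4, 1, 2)], [(4, 2, 1)], [], [(6, 1, 1)], []], [[], [(2, 1, 1)], [], [], [(5, 1, 1)], [], []], [[], [], [(1, 1, 1)], [], [], [(4, 1, 1)], []], [[], [(0, 1, 1)], [], [(2, 2, 1)], [(3, 1, 1), (2, 1, 2)], [], [(5, 1, 1)]], [[], [], [(0, -1, 1)], [(1, 2, 1)], [], [(3, -1, 1), (1, -1, 2)], [(4, 1, 1)]], [[], [], [], [(0,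 -2, 1)], [(1, 1, 1)], [(2, 1, 1)], [(3, -1, 1), (0, 1, 2)]], [[], [], [], [], [(0, 1, 1)], [], [(2, -1, 1)]], [[], [], [], [], [], [(0, -1, 1)], [(1, -1, 1)]]]
/-- Data. -/
def degG7 : ℕ → ℕ → ℤ := tab [[2, 1], [1, 1], [1, 0], [0, 0], [-1, 0], [-1, -1], [-2, -1]]
/-- Data. -/
def muG7 : ℕ → ℕ → List ℕ := tab2 [[[1, 0], [0, 1], [2, 0], [0, 0], [0, 2], [1, 0], [0, 1]], [[0, 0], [1, 0], [0, 1], [0, 0], [1, 0], [0, 1], [0, 0]]]
theorem chkRep_G7 : chkRep chevG2 tabG2 0 7 colG7 degG7 muG7 = true := by decide +kernel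

/-- Data. -/
def colG6 : ℕ → ℕ → List (ℕ × ℤ × ℕ) := tab2 [[[(4, 1, 1)], [(5, 1, 1)], [], [], [], []], [[(3, 1, 1)], [], [(5, 1, 1)], [], [], []], [[(5, 1, 2)], [(3, 1, 1)], [(4, 1, 1)], [], [], []], [[(2, 1, 1)], [(4, 1, 2)], [], [(5, 1, 1)], [], []], [[(1, 1, 1)], [], [(3, 1, 2)], [], [(5, 1, 1)], []], [[], [(2, 1, 1)], [], [(4, 1, 1)], [], []], [[], [], [(1, 1, 1)], [], [(3, 1, 1)], []], [[], [(0, 1, 1)], [], [(2, 1, 2)], [], [(4, 1, 1)]], [[], [], [(0, 1, 1)], [], [(1, 1, 2)], [(3, 1, 1)]], [[], [], [], [(1, 1, 1)], [(2, 1, 1)], [(0, 1, 2)]], [[], [], [], [(0, 1, 1)], [], [(2, 1, 1)]], [[], [], [], [], [(0, 1, 1)], [(1, 1, 1)]]]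
/-- Data. -/
def degG6 : ℕ → ℕ → ℤ := tab [[2, 1], [1, 1], [1, 0], [-1, 0], [-1, -1], [-2, -1]]
/-- Data. -/
def muG6 : ℕ → ℕ → List ℕ := tab2 [[[1, 0], [0, 1], [2, 0], [0, 2], [1, 0], [0, 1]], [[0, 0], [1, 0], [0, 1], [1, 0], [0, 1], [0, 0]]]
theorem chkRep_G6 : chkRep chevG2 tabG2 2 6 colG6 degG6 muG6 = true := by decide +kernel


theorem enum_G2 : chkEnum chevG2 sigG2 12 0x5040107060300080a0200090b0201090b0305080a040607
    0x9000a0008000b000b0007000a00060005000900040008000700030006000200010005000000040003000000020001 = true := by decide +kernel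

theorem PreSys.pow_eq_one_of_comm {I Φ : Type*} [Fintype I] [DecidableEq I] {R : RootSys I Φ} {K G : Type*} [Field K] [Group G] (S : PreSys R K G)
    (p : ℕ) [CharP K p] {T : Set Φ} (h : ∀ r ∈ T, ∀ s ∈ T, ∀ t u, S.x r t * S.x s u = S.x s u * S.x r t) {a : G} (ha : a ∈ S.U T) : a ^ p = 1 := by
  induction ha using S.U_induction_left with
  | h1 => exact one_pow _
  | h2 r hr t g hg ih =>
    rw [Commute.mul_pow (S.commute_U h (S.x_mem_U hr t) hg), ih, ← S.x_nsmul, CharP.cast_eq_zero, zero_mul, S.x_zero, mul_one]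

theorem dvd_of_eq' {n a b : ℤ} (h : n ∣ a) (e : a = b := by ring) : n ∣ b := e ▸ h

theorem dvd_of_det {n a b c d x y : ℤ} (h : n ∣ a * x + b * y) (h' : n ∣ c * x + d * y) : n ∣ (a * d - b * c) * x ∧ n ∣ (a * d - b * c) * y :=
  ⟨dvd_of_eq' (dvd_sub (h.mul_left d) (h'.mul_left b)), dvd_of_eq' (dvd_sub (h'.mul_left a) (h.mul_left c))⟩

theorem coprime_of_card {K : Type*} [Field K] [Fintype K] (p : ℕ) [Fact p.Prime] [CharP K p] {n : ℕ} (a b : ℤ)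
    (h : a * n + b * Fintype.card K = 1) : n.Coprime p := by
  obtain ⟨j, -, hj⟩ := FiniteField.card K p
  exact (Nat.isCoprime_iff_coprime.1 ⟨a, b, h⟩).coprime_dvd_right (hj ▸ dvd_pow_self _ j.2.ne')

theorem max_subset {S L : Set ℕ} (h1 : ∀ n ∈ S, ∃ m ∈ L, n ∣ m) (h2 : L ⊆ S) : {n | n ∈ S ∧ ∀ m ∈ S, n ∣ m → m = n} ⊆ L := fun n hn =>
  let ⟨m, h3, h4⟩ := h1 n hn.1; hn.2 m (h2 h3) h4 ▸ h3

theorem max_eq {S L : Set ℕ} (h1 : ∀ n ∈ S, ∃ m ∈ L, n ∣ m) (h2 : L ⊆ S) (h3 : ∀ a ∈ L, ∀ b ∈ L, a ∣ b → b = a) :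
    {n | n ∈ S ∧ ∀ m ∈ S, n ∣ m → m = n} = L := (max_subset h1 h2).antisymm fun n hn => ⟨h2 hn, fun m hm h =>
      let ⟨k, h4, h5⟩ := h1 m hm; Nat.dvd_antisymm (h3 n hn k h4 (h.trans h5) ▸ h5) h⟩

namespace G2

/-- The first node. -/
def i0 : Fin chevG2.rank := ⟨0, by decide⟩
/-- The second node. -/
def i1 : Fin chevG2.rank := ⟨1, by decide⟩

theorem forall_iff {P : Fin chevG2.rank → Prop} : (∀ i, P i) ↔ P i0 ∧ P i1 := Fin.forall_fin_two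

theorem aw_eq (w : Equiv.Perm (Fin chevG2.nroots)) (y : Fin chevG2.rank → ℤ) (i : Fin chevG2.rank) :
    RG2.aw w y i = aN coG2 (w (RG2.simple i0)) i * y i0 + aN coG2 (w (RG2.simple i1)) i * y i1 := by
  rw [← (co_eq_aN rootOK_G2 chkCW_G2 _ _).1, ← (co_eq_aN rootOK_G2 chkCW_G2 _ _).1]; exact Fin.sum_univ_two _

theorem ev_eq (r : Fin chevG2.nroots) (y : Fin chevG2.rank → ℤ) : RG2.ev r y = aN wtG2 r 0 * y i0 + aN wtG2 r 1 * y i1 := by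
  rw [← show _ = aN wtG2 r 0 from (co_eq_aN rootOK_G2 chkCW_G2 r i0).2, ← show _ = aN wtG2 r 1 from (co_eq_aN rootOK_G2 chkCW_G2 r i1).2]
  exact Fin.sum_univ_two _

theorem exists_mat {w : Equiv.Perm (Fin chevG2.nroots)} (hw : w ∈ RG2.W) : ∃ a b c d : ℤ, (∀ y, RG2.aw w y i0 = a * y i0 + b * y i1 ∧
    RG2.aw w y i1 = c * y i0 + d * y i1) ∧ (a + d = 0 ∧ a * d - b * c = -1 ∨ a + d = -1 ∧ a * d - b * c = 1 ∨ a + d = 1 ∧ a * d - b * c = 1 ∨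
      b = 0 ∧ c = 0 ∧ d = a ∧ a ^ 2 = 1) ∧ ∀ r < 12, aN wtG2 r 0 * (aN wtG2 r 0 * b + aN wtG2 r 1 * d) -
        aN wtG2 r 1 * (aN wtG2 r 0 * a + aN wtG2 r 1 * c) ∣ 3 ∨ ∃ ε ∈ [1, -1], ∃ k ∈ [0, 1, -1, 2, -2, 3, -3], ∃ k' ∈ [0, 1, -1, 2, -2, 3, -3],
          a = ε + k * aN wtG2 r 0 ∧ b = k * aN wtG2 r 1 ∧ c = k' * aN wtG2 r 0 ∧ d = ε + k' * aN wtG2 r 1 := by
  obtain ⟨e, he, h⟩ := compat_G2.exists_enum (sig_of_chkLight _ _ chkLight_G2) enum_G2 hw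
  refine ⟨_, _, _, _, fun y => ⟨aw_eq w y i0, aw_eq w y i1⟩, ?_⟩
  rw [h, h]
  clear h; revert e; decide +kernel

variable {K : Type u} [Field K] (p : ℕ) [hp : Fact p.Prime] [CharP K p]

theorem orderOf_dvd {T : Set (Fin chevG2.nroots)} (a b : ℤ) (m j : ℕ) (hT : ∀ r ∈ T, 0 < a * Twist.rtN chevG2 tabG2 r 0 + b * Twist.rtN chevG2 tabG2 r 1)
    (hm : ∀ k < 7, ∀ l < 7, a * degG7 k 0 + b * degG7 k 1 < a * degG7 l 0 + b * degG7 l 1 + m) (hj : m ≤ p ^ j) {u : chevG2.group K}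
    (hu : u ∈ (compat_G2.gsys matOK_G2 K).U T) : orderOf u ∣ p ^ j := by
  obtain ⟨φ, h1, -, h2, -⟩ := exists_rep_hom rootOK_G2 matOK_G2 (by simp) chkRep_G7 K Nat.cast_zero (compat_G2.gsc matOK_G2 (by simp) K)
  have := (h2 T (AddMonoidHom.mk' (fun v => a * v i0 + b * v i1) fun v w => by simp only [Pi.add_apply]; ring) hT u hu).pow_eq_one
    (fun k l => hm k k.2 l l.2) p hj
  rw [orderOf_dvd_iff_pow_eq_one, ← map_eq_one_iff φ h1, map_pow]; exact Units.ext this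

variable [Fintype K] {x : ℕ} (hx : Fintype.card K = x + 1)
include hx

theorem root_cases {n d : ℕ} {y : Fin chevG2.rank → ℤ} {w : RG2.W} (h1 : ∀ i, (n : ℤ) ∣ RG2.aw w y i - Fintype.card K * y i)
    (h3 : ∀ m : ℕ, d ∣ m ↔ ∀ i, (n : ℤ) ∣ m * y i) (h4 : d.Coprime p) : (d ∣ x ^ 2 + 2 * x ∨ d ∣ x ^ 2 + 3 * x + 3 ∨ d ∣ x ^ 2 + x + 1) ∧
      (∀ r, (n : ℤ) ∣ RG2.ev r y → d ∣ x + 2 ∨ d ∣ x) ∧ ∀ r s, (n : ℤ) ∣ RG2.ev r y → (n : ℤ) ∣ RG2.ev s y → ∀ m : ℕ,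
        aN wtG2 r 0 * aN wtG2 s 1 - aN wtG2 r 1 * aN wtG2 s 0 ∣ m → d ∣ m := by
  obtain ⟨a, b, c, e, a1, a2, a3⟩ := exists_mat w.2
  rw [forall_iff, (a1 y).1, (a1 y).2, hx] at h1
  have hd : ∀ (m : ℕ) (m' : ℤ), (n : ℤ) ∣ m' * y i0 ∧ (n : ℤ) ∣ m' * y i1 → m' ∣ m → d ∣ m := fun m m' h ⟨k, hk⟩ =>
    (h3 m).2 (forall_iff.2 (by rw [hk, mul_right_comm, mul_right_comm _ k]; exact ⟨h.1.mul_right _, h.2.mul_right _⟩))
  push_cast at h1
  refine ⟨?_, fun r hr => ?_, fun r s hr hs m => hd _ _ (dvd_of_det (ev_eq r y ▸ hr) (ev_eq s y ▸ hs))⟩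
  · have := fun m => hd m _ (dvd_of_det (a := a - (x + 1)) (b := b) (c := c) (d := e - (x + 1)) (dvd_of_eq' h1.1) (dvd_of_eq' h1.2))
    rcases a2 with ⟨b1, b2⟩ | ⟨b1, b2⟩ | ⟨b1, b2⟩ | ⟨rfl, rfl, rfl, b2⟩
    · exact .inl (this _ (dvd_of_eq (by push_cast; linear_combination b2 - (x + 1) * b1)))
    · exact .inr (.inl (this _ (dvd_of_eq (by push_cast; linear_combination b2 - (x + 1) * b1))))
    · exact .inr (.inr (this _ (dvd_of_eq (by push_cast; linear_combination b2 - (x + 1) * b1))))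
    · exact .inl (hd _ (e - (x + 1)) ⟨dvd_of_eq' h1.1, dvd_of_eq' h1.2⟩ ⟨-e - (x + 1), by push_cast; linear_combination b2⟩)
  · rw [ev_eq] at hr
    rcases a3 r r.2 with h | ⟨ε, hε, k, -, k', -, rfl, rfl, rfl, rfl⟩
    · have := hd 3 _ (dvd_of_det hr (dvd_of_eq' (dvd_add (dvd_add (h1.1.mul_left (aN wtG2 r 0)) (h1.2.mul_left (aN wtG2 r 1))) (hr.mul_left (x + 1))))) h
      rcases (Nat.dvd_prime Nat.prime_three).1 this with rfl | rfl
      · exact .inl (one_dvd _)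
      · obtain ⟨j, -, hj⟩ := FiniteField.card K p
        have := (Nat.prime_three.coprime_iff_not_dvd).1 (hx.symm.trans hj ▸ h4.pow_right j)
        omega
    · have := fun m => hd m (ε - (x + 1)) ⟨dvd_of_eq' (dvd_sub h1.1 (hr.mul_left k)), dvd_of_eq' (dvd_sub h1.2 (hr.mul_left k'))⟩
      simp only [List.mem_cons, List.not_mem_nil, or_false] at hε
      rcases hε with rfl | rfl
      · exact .inr (this _ ⟨-1, by ring⟩)
      · exact .inl (this _ ⟨-1, by push_cast; ring⟩)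

theorem orderOf_cases (g : chevG2.group K) : orderOf g ∣ p * (x + 2) ∨ orderOf g ∣ p * x ∨ orderOf g ∣ x ^ 2 + 2 * x ∨ orderOf g ∣ x ^ 2 + 3 * x + 3 ∨
    orderOf g ∣ x ^ 2 + x + 1 ∨ p = 2 ∧ (orderOf g ∣ 8 ∨ orderOf g ∣ 12) ∨ (p = 3 ∨ p = 5) ∧ orderOf g ∣ p ^ 2 := by
  have hc := compat_G2
  have hm := matOK_G2
  obtain ⟨n, d, y, w, u, -, h1, h2, -, h3, h4, h5⟩ := hc.exists_data hm p (hc.gsc hm (by simp) _) g
  obtain ⟨a1, a2, a3⟩ := root_cases p hx h1 h3 h4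
  rw [h5]
  set T := {r | RG2.Pos r ∧ (n : ℤ) ∣ RG2.ev r y} with hT
  have hP : ∀ r ∈ T, 6 ≤ r.1 := fun r hr => by have : 12 ≤ _ := (rootOK_G2.pos_iff_half r).1 hr.1; omega
  rcases T.eq_empty_or_nonempty with h0 | ⟨r, hr⟩
  · rw [h0, PreSys.U_empty, mem_bot] at h2
    rw [h2, orderOf_one, mul_one]
    tauto
  have b2 : orderOf u ∣ p ^ 1 → d * orderOf u ∣ p * (x + 2) ∨ d * orderOf u ∣ p * x := fun h => by
    rw [mul_comm]; rw [pow_one] at h; exact (a2 r hr.2).imp (mul_dvd_mul h) (mul_dvd_mul h)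
  have b3 := hp.out.two_le
  by_cases h6 : d = 1
  · have := fun j hj => orderOf_dvd p 1 1 7 j (fun r hr => by have := hP r hr; clear hr; revert r; decide +kernel) (by decide +kernel) hj h2
    by_cases h7 : 7 ≤ p
    · have := b2 (this 1 (by rw [pow_one]; omega)); tauto
    · rw [h6, one_mul]
      have h8 : p = 2 ∨ p = 3 ∨ p = 5 := by have := hp.out; push Not at h7; interval_cases p <;> simp_all (config := {decide := true})
      rcases h8 with rfl | rfl | rfl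
      · have := this 3 (by norm_num); tauto
      · have := this 2 (by norm_num); tauto
      · have := this 2 (by norm_num); tauto
  have b4 : ∀ r ∈ T, ∀ s ∈ T, ¬ aN wtG2 r 0 * aN wtG2 s 1 - aN wtG2 r 1 * aN wtG2 s 0 ∣ (1 : ℕ) := fun r hr s hs h =>
    h6 (Nat.dvd_one.1 (a3 r s hr.2 hs.2 1 h))
  by_cases h7 : (⟨6, by decide⟩ : Fin chevG2.nroots) ∈ T ∧ (⟨10, by decide⟩ : Fin chevG2.nroots) ∈ T
  · have := fun j hj => orderOf_dvd p 0 1 3 j (fun r hr => by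
      have h1 := hP r hr; have h2 := b4 r hr _ h7.1; clear hr; revert r; decide +kernel) (by decide +kernel) hj h2
    by_cases h8 : p = 2
    · subst h8
      have := mul_dvd_mul (a3 _ _ h7.1.2 h7.2.2 3 (by decide +kernel)) (this 2 (by norm_num)); tauto
    · have := b2 (this 1 (by rw [pow_one]; omega)); tauto
  · have := b2 ((pow_one p).symm ▸ orderOf_dvd_of_pow_eq_one (PreSys.pow_eq_one_of_comm _ p (fun r hr s hs t u => ?_) h2))
    · tauto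
    have h8 : ∀ r s : Fin chevG2.nroots, 6 ≤ r.1 → 6 ≤ s.1 → ¬ aN wtG2 r 0 * aN wtG2 s 1 - aN wtG2 r 1 * aN wtG2 s 0 ∣ (1 : ℕ) → r = s ∨
      r = ⟨6, by decide⟩ ∧ s = ⟨10, by decide⟩ ∨ s = ⟨6, by decide⟩ ∧ r = ⟨10, by decide⟩ ∨ termsF chevG2 r s = [] ∧ (s : ℕ) ≠ chevG2.neg r := by
      decide +kernel
    by_cases h9 : s = r
    · rw [h9, ← PreSys.x_add, ← PreSys.x_add, add_comm]
    rcases h8 r s (hP r hr) (hP s hs) (b4 r hr s hs) with rfl | ⟨rfl, rfl⟩ | ⟨rfl, rfl⟩ | h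
    exacts [absurd rfl h9, absurd ⟨hr, hs⟩ h7, absurd ⟨hs, hr⟩ h7,
      by simpa [h.1] using (hc.gexact hm r s h9 (fun h' => h.2 (by rw [h', hc.neg_eq])) t u).symm]

theorem exists_orderOf : ∀ m ∈ [p * (x + 2), p * x, x ^ 2 + 2 * x, x ^ 2 + 3 * x + 3, x ^ 2 + x + 1], ∃ g : chevG2.group K, orderOf g = m := by
  have hc := compat_G2
  have key : ∀ (l : List (Fin chevG2.rank)) (n : ℕ) (t a b : ℤ), a * n + b * (x + 1) = 1 → ∀ c d e f : ℤ,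
      aN coG2 ((l.map Fin.val).foldr chevG2.reflectRoot (chevG2.simple i0)) i0 = c ∧ aN coG2 ((l.map Fin.val).foldr chevG2.reflectRoot (chevG2.simple i1)) i0 = d ∧
      aN coG2 ((l.map Fin.val).foldr chevG2.reflectRoot (chevG2.simple i0)) i1 = e ∧ aN coG2 ((l.map Fin.val).foldr chevG2.reflectRoot (chevG2.simple i1)) i1 = f →
      (n : ℤ) ∣ (x + 1) * (c + d * t) - 1 → (n : ℤ) ∣ (x + 1) * (e + f * t) - t →
      (∃ g : chevG2.group K, orderOf g = n) ∧ ((l.map Fin.val).foldr chevG2.reflectRoot 11 = 11 → t = 0 → ∃ g : chevG2.group K, orderOf g = p * n) := by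
    intro l n t a b h1 c d e f h2 h3 h4
    have := hc.exists_orderOf_eq matOK_G2 p (hc.gsc matOK_G2 (by simp) _) (RG2.wprod_mem_W l) (coprime_of_card (K := K) p a b (by rw [hx]; exact_mod_cast h1))
      (y := fun i => if i = i0 then 1 else t) (if_pos rfl) (forall_iff.2 (by
        rw [aw_eq, aw_eq, hc.wprod_val, hc.wprod_val, hc.simple_eq, hc.simple_eq, hx, h2.1, h2.2.1, h2.2.2.1, h2.2.2.2]
        simpa [i0, i1] using And.intro h3 h4))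
    exact ⟨this.1, fun h5 h6 => mul_comm n p ▸ this.2 ⟨11, by decide⟩ (Fin.ext ((hc.wprod_val _ _).trans h5)) (by
      rw [ev_eq, show aN wtG2 (11 : ℕ) 0 = 0 by decide +kernel]; simp [i0, i1, h6])⟩
  simp only [List.mem_cons, List.not_mem_nil, or_false]
  rintro _ (rfl | rfl | rfl | rfl | rfl)
  · exact (key [i0] (x + 2) 0 1 (-1) (by push_cast; ring) (-1) 1 0 1 (by decide +kernel) ⟨-1, by push_cast; ring⟩ ⟨0, by ring⟩).2 (by decide +kernel) rfl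
  · exact (key [] x 0 (-1) 1 (by ring) 1 0 0 1 (by decide +kernel) ⟨1, by ring⟩ ⟨0, by ring⟩).2 (by decide +kernel) rfl
  · exact (key [i0] _ (x + 2) (-1) (x + 1) (by push_cast; ring) (-1) 1 0 1 (by decide +kernel) ⟨1, by push_cast; ring⟩ ⟨1, by push_cast; ring⟩).1
  · exact (key [i0, i1, i0, i1] _ (x + 3) 1 (-x - 2) (by push_cast; ring) 1 (-1) 3 (-2) (by decide +kernel) ⟨-1, by push_cast; ring⟩
      ⟨-2, by push_cast; ring⟩).1
  · exact (key [i0, i1] _ (x + 2) 1 (-x) (by push_cast; ring) 2 (-1) 3 (-1) (by decide +kernel) ⟨-1, by push_cast; ring⟩ ⟨-1, by push_cast; ring⟩).1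

omit hx [Fintype K] in
theorem exists_small {l : List ℕ} {N : ℕ} (hN : 0 < N) (h : chkOrd chevG2 p 7 colG7 (cw l) N = true) : ∃ g : chevG2.group K, orderOf g = N := by
  obtain ⟨φ, h1, h2, -⟩ := exists_rep_hom rootOK_G2 matOK_G2 (by simp) chkRep_G7 K Nat.cast_zero (compat_G2.gsc matOK_G2 (by simp) K)
  exact ⟨_, orderOf_evW h1 h2 (CharP.cast_eq_zero K p) 0 hN h⟩

omit hx
theorem ord8 : chkOrd chevG2 2 7 colG7 (cw [0, 8]) 8 = true := by decide +kernel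
theorem ord12 : chkOrd chevG2 2 7 colG7 (cw [0, 2, 9]) 12 = true := by decide +kernel
theorem ord9 : chkOrd chevG2 3 7 colG7 (cw [6, 7]) 9 = true := by decide +kernel
theorem ord25 : chkOrd chevG2 5 7 colG7 (cw [6, 7]) 25 = true := by decide +kernel

end G2

end Cfsg.Lib.Chev
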