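/-
Gauss decomposition with prescribed torus part: every non-central conjugacy class meets `U⁻ t U` for every `t ∈ H`.
-/
import Cfsg.Agent.Lib.Chev.Tori

set_option autoImplicit false

namespace Cfsg.Lib.Chev

open Subgroup

variable {I Φ : Type*} [Fintype I] [DecidableEq I] {R : RootSys I Φ}

theorem RootSys.mem_WJ_compl_of_fix [Finite Φ] {w : Equiv.Perm Φ} {i k : I} (hw : w ∈ R.WJ {k}ᶜ)
    (h : w (R.simple k) = R.simple k) (hA : R.A k i ≠ 0) (hik : i ≠ k) : w ∈ R.WJ {i}ᶜ := by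
  have hW := R.WJ_le_W _ hw
  refine RootSys.mem_WJ_of_forall hW fun r hr hi => by_contra fun h1 => ?_
  have h2 : R.InSub {k}ᶜ r := by_contra fun h2 => h1 ((RootSys.WJ_pos_iff hw h2).2 hr)
  have h3 := (RootSys.WJ_inSub hw).2 h2
  have h4 := RootSys.W_pair hW (R.simple k) r
  rw [h, R.pair_simple, R.pair_simple] at h4
  have h5 : 0 ≤ R.wt (R.rt (w r)) k := Finset.sum_nonneg fun j _ => by
    rcases eq_or_ne k j with rfl | e
    · simp [h3 k (by simp)]
    · exact mul_nonneg_of_nonpos_of_nonpos (R.A_nonpos e) ((R.not_pos_iff _).1 h1 j)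
  have h6 : R.wt (R.rt r) k < 0 := by
    refine Finset.sum_neg' (fun j _ => ?_) ⟨i, by simp, mul_neg_of_neg_of_pos
      ((R.A_nonpos hik.symm).lt_of_ne hA) ((hr i).lt_of_ne' fun e => hi fun j hj => by
        obtain rfl : j = i := by simpa using hj
        exact e)⟩
    rcases eq_or_ne k j with rfl | e
    · simp [h2 k (by simp)]
    · exact mul_nonpos_of_nonpos_of_nonneg (R.A_nonpos e) (hr j)
  omega

namespace PreSys

variable {K : Type*} [Field K] {G : Type*} [Group G] {S : PreSys R K G}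

variable (S) in
/-- `g ∈ U U⁻ t U`. -/
def GD (g t : G) : Prop := ∃ u ∈ S.U {r | R.Pos r}, ∃ y ∈ S.U {r | ¬ R.Pos r}, ∃ u' ∈ S.U {r | R.Pos r}, g = u * y * t * u'

namespace St

variable [Finite Φ] (hS : S.St)
include hS

theorem gd_step {w : Equiv.Perm Φ} {i : I} (hi : R.Pos (w (R.simple i))) {m t : G} (hm : S.Act m w) (ht : t ∈ S.H)
    (h : S.GD m t) {c : K} (hc : c ≠ 0) : S.GD (m * S.n (R.simple i) c) t := by
  obtain ⟨u, hu, y, hy, u', hu', e⟩ := h
  have hx := S.x_mem_U (T := {r | R.Pos r}) (R.pos_simple i) (-c)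
  obtain ⟨a, ha, v, hv, e1⟩ := S.exists_mul R.nil_pos {R.simple i} (mul_mem (inv_mem hu') hx)
  have h1 := hm.conj_mem (T' := {r | R.Pos r}) (by rintro _ ⟨-, rfl⟩; exact hi) ha
  have h2 := ((hS.act_n _ hc).inv (R.s_mem_W i)).conj_mem (T' := {r | R.Pos r})
    (fun r hr => by rw [R.s_inv]; exact R.pos_s hr.1 hr.2) hv
  have e2 := S.x_neg_eq (R.simple i) (-c⁻¹)
  rw [inv_neg, inv_inv, neg_neg] at e2
  refine ⟨_, mul_mem (inv_mem h1) hu, _, mul_mem hy (hS.H_conj_mem_U ht (S.x_mem_U (R.not_pos_neg_simple i) (-c⁻¹))), _,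
    mul_mem (inv_mem hx) (inv_mem h2), ?_⟩
  rw [e2, eq_mul_inv_of_mul_eq e1.symm, e]; group

variable (hF : S.Sep) (hM : S.Mult)
include hF

theorem gd_all {w : Equiv.Perm Φ} (hw : w ∈ R.W) : ∀ m ∈ S.N, S.Act m w → ∃ t ∈ S.H, ∀ c : I → Kˣ,
    (∀ i, w ∈ R.WJ {i}ᶜ → c i = 1) → S.GD m (t * hS.tor hM c) := by
  induction hw using R.W_induction with
  | h1 =>
    refine fun m hm h => ⟨m, hS.mem_H_of_act_one hF hm h, fun c hc => ⟨1, one_mem _, 1, one_mem _, 1, one_mem _, ?_⟩⟩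
    rw [show c = 1 from funext fun i => hc i (one_mem _)]; simp
  | h2 w hw i hi ih =>
    intro m hm h
    have h1 := h.mul (inv_mem (R.s_mem_W i)) ((hS.act_n (R.simple i) one_ne_zero).inv (R.s_mem_W i))
    rw [mul_inv_cancel_right] at h1
    obtain ⟨t, ht, h2⟩ := ih _ (mul_mem hm (inv_mem (S.n_mem_N _ one_ne_zero))) h1
    refine ⟨t, ht, fun c hc => ?_⟩
    obtain ⟨u, hu, y, hy, u', hu', e⟩ := hS.gd_step hi h1 (mul_mem ht (hS.tor_mem hM _)) (h2 (Function.update c i 1) fun j hj => by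
      rcases eq_or_ne j i with rfl | e
      · simp
      · rw [Function.update_of_ne e]; exact hc j (mul_mem hj (R.s_mem_WJ e.symm))) (c i).ne_zero
    have e1 := hS.conj_h hM (inv_mem (R.s_mem_W i)) ((hS.act_n (R.simple i) one_ne_zero).inv (R.s_mem_W i))
      (R.simple i) (c i).ne_zero
    have e2 := hS.h_refl hM (R.simple i) (R.simple i) (c i).ne_zero
    rw [R.pair_self, zpow_two, hM _ _ _ (c i).ne_zero (c i).ne_zero, ← mul_assoc, mul_eq_right, ← R.s_apply, ← R.s_inv, ← e1] at e2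
    refine ⟨u, hu, y, hy, _, hS.H_conj_mem_U (inv_mem (S.h_mem_H (R.simple i) (c i).ne_zero)) hu', ?_⟩
    have e3 : hS.tor hM c = hS.tor hM (Function.update c i 1) * S.h (R.simple i) (c i) := by
      rw [← hS.tor_single hM, ← map_mul]; congr 1
      ext j; rcases eq_or_ne j i with rfl | e <;> simp [*]
    rw [S.n_eq _ (c i), show ∀ a b : G, m * a⁻¹ * (b * a) = m * (a⁻¹ * b * a⁻¹⁻¹) from fun a b => by group,
      eq_inv_of_mul_eq_one_left e2, mul_inv_eq_iff_eq_mul] at e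
    rw [e3, e]; group

theorem exists_full (hO : S.Opp) (hgen : S.U Set.univ = ⊤) (hR : R.Conn) {g : G} (hg : g ∉ center G) :
    ∃ a, ∃ w ∈ R.W, a * g * a⁻¹ ∈ S.cell w ∧ ∀ i, w ∉ R.WJ {i}ᶜ := by
  by_contra! h
  suffices ∀ n : ℕ, ∃ a, ∃ w ∈ R.W, a * g * a⁻¹ ∈ S.cell w ∧ n < R.length w by
    obtain ⟨a, w, -, -, h1⟩ := this (Nat.card Φ)
    exact h1.not_ge (Set.ncard_le_card _)
  intro n
  induction n with
  | zero =>
    by_contra! h1
    refine hg (mem_center_of_comm hgen (hS.core_le hF hO (X := normalClosure {g})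
      (fun a _ b hb => normalClosure_normal.conj_mem b hb a) ?_ (subset_normalClosure rfl)).2)
    refine (closure_le _).2 fun x hx => ?_
    obtain ⟨y, hy, hx⟩ := Group.mem_conjugatesOfSet_iff.1 hx
    obtain ⟨a, rfl⟩ := isConj_iff.1 (hy ▸ hx : IsConj g x)
    obtain ⟨w, hw, h2⟩ := hS.exists_cell (g := a * g * a⁻¹) (hgen ▸ trivial)
    obtain rfl := R.eq_one_of_forall_pos_W hw fun i => by_contra fun h3 => by
      have := h1 a w hw h2
      rw [R.length_eq, Nat.le_zero, Set.ncard_eq_zero] at this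
      exact this.le ⟨R.pos_simple i, h3⟩
    exact (hS.mem_cell_one hF).1 h2
  | succ n ih =>
    obtain ⟨a, w, hw, h1, h2⟩ := ih
    have pos : ∀ {k w}, w ∈ R.WJ {k}ᶜ → R.Pos (w (R.simple k)) := fun hk =>
      (RootSys.WJ_pos_iff hk (by simp [RootSys.inSub_simple])).2 (R.pos_simple _)
    obtain ⟨k, hk, i, hi, hA⟩ := hR {i | w ∈ R.WJ {i}ᶜ} (h a w hw h1) (by
      by_contra! h3
      obtain rfl := R.eq_one_of_forall_pos_W hw fun i => pos (by simpa using Set.eq_empty_iff_forall_notMem.1 h3 i)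
      simp [R.length_one] at h2)
    have h3 : w⁻¹ (R.simple k) ≠ R.simple k := fun e =>
      hi (RootSys.mem_WJ_compl_of_fix hk (Equiv.Perm.inv_eq_iff_eq.1 e).symm hA fun e => hi (e ▸ hk))
    have h4 : R.Pos ((w * R.s k)⁻¹ (R.simple k)) := by
      rw [mul_inv_rev, R.s_inv]; exact R.pos_s (pos (inv_mem hk)) h3
    have hn := (hS.act_n (R.simple k) one_ne_zero).mem_cell (S.n_mem_N _ one_ne_zero)
    have hn' := inv_mem_cell (R.s_mem_W k) hn
    rw [R.s_inv] at hn'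
    have hw' := mul_mem hw (R.s_mem_W k)
    refine ⟨S.n (R.simple k) 1 * a, _, mul_mem (R.s_mem_W k) hw', by
      simpa [mul_assoc] using (hS.mul_mem_cell_left hw' hn ((hS.mul_mem_cell hw h1 hn').resolve_right
        fun h => h.1 (pos hk))).resolve_right fun h => h.1 h4, ?_⟩
    have := R.length_mul_s (inv_mem hw') h4
    rw [R.length_inv hw', R.length_mul_s hw (pos hk), ← R.s_inv k, ← mul_inv_rev, R.s_inv,
      R.length_inv (mul_mem (R.s_mem_W k) hw')] at this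
    omega

/-- Gauss decomposition with prescribed torus part. -/
theorem gauss (hM : S.Mult) (hO : S.Opp) (hgen : S.U Set.univ = ⊤) (hR : R.Conn) {g t : G} (hg : g ∉ center G)
    (ht : t ∈ S.H) : ∃ a, ∃ y ∈ S.U {r | ¬ R.Pos r}, ∃ u ∈ S.U {r | R.Pos r}, a * g * a⁻¹ = y * t * u := by
  obtain ⟨a, w, hw, ⟨b, hb, m, hm, h1, b', hb', e⟩, h2⟩ := hS.exists_full hF hO hgen hR hg
  obtain ⟨u, hu, s, hs, rfl⟩ := hS.mem_U_sup_H.1 hb
  obtain ⟨s', hs', u', hu', rfl⟩ := hS.mem_U_sup_H'.1 hb'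
  have h3 := ((hS.act_H hs).mul hw h1).mul (one_mem _) (hS.act_H hs')
  rw [one_mul, mul_one] at h3
  obtain ⟨t0, ht0, h4⟩ := hS.gd_all hF hM hw _ (mul_mem (mul_mem (S.H_le_N hs) hm) (S.H_le_N hs')) h3
  obtain ⟨c, hc⟩ := (hS.mem_H_iff hM).1 (mul_mem (inv_mem ht0) ht)
  obtain ⟨v, hv, y, hy, v', hv', e1⟩ := h4 c fun i hi => (h2 i hi).elim
  refine ⟨(u * v)⁻¹ * a, y, hy, _, mul_mem (mul_mem hv' hu') (mul_mem hu hv), ?_⟩
  rw [hc, mul_inv_cancel_left] at e1
  rw [show (u * v)⁻¹ * a * g * ((u * v)⁻¹ * a)⁻¹ = (u * v)⁻¹ * (a * g * a⁻¹) * (u * v) by group, e,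
    show u * s * m * (s' * u') = u * (s * m * s') * u' by group, e1]
  group

end St

end PreSys

end Cfsg.Lib.Chev
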