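/-
Iterated cores of a maximal parabolic subgroup and its conjugate by the omitted fundamental reflection
(simply laced root system, trivial diagonal subgroup).
-/
import Cfsg.Agent.Lib.Chev.Aut
import Cfsg.Agent.Lib.Chev.Coord
import Cfsg.Agent.Lib.BN.Parabolic

set_option autoImplicit false

namespace Cfsg.Lib.Chev.ItCore

open scoped Pointwise

theorem mem_core {G : Type*} [Group G] {M Y : Subgroup G} {g : G} :
    g ∈ ((Y.subgroupOf M).normalCore.map M.subtype) ↔ g ∈ M ∧ ∀ m ∈ M, m * g * m⁻¹ ∈ Y := by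
  constructor
  · rintro ⟨a, ha, rfl⟩
    exact ⟨a.2, fun m hm => ha ⟨m, hm⟩⟩
  · rintro ⟨h1, h2⟩
    exact ⟨⟨g, h1⟩, fun m => h2 m m.2, rfl⟩

theorem mem_map_conj {G : Type*} [Group G] {Y : Subgroup G} {n g : G} (hn : n * n = 1) :
    g ∈ Y.map (MulAut.conj n).toMonoidHom ↔ n * g * n⁻¹ ∈ Y := by
  have hi : n⁻¹ = n := inv_eq_of_mul_eq_one_right hn
  constructor
  · rintro ⟨a, ha, rfl⟩
    have : n * (n * a * n⁻¹) * n⁻¹ = a := by
      rw [← mul_assoc, ← mul_assoc, hn, one_mul, mul_assoc, hi, hn, mul_one]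
    simpa [this] using ha
  · intro h
    refine ⟨_, h, ?_⟩
    change n * (n * g * n⁻¹) * n⁻¹ = g
    rw [← mul_assoc, ← mul_assoc, hn, one_mul, mul_assoc, hi, hn, mul_one]

/-- The iterated cores. -/
def seq {G : Type*} [Group G] (M : Subgroup G) (n : G) : ℕ → Subgroup G
  | 0 => M
  | i + 1 => ((seq M n i ⊓ (seq M n i).map (MulAut.conj n).toMonoidHom).subgroupOf M).normalCore.map M.subtype

theorem mem_seq {G : Type*} [Group G] {M : Subgroup G} {n g : G} (hn : n * n = 1) {i : ℕ} :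
    g ∈ seq M n (i + 1) ↔ g ∈ M ∧ ∀ m ∈ M, m * g * m⁻¹ ∈ seq M n i ∧ n * (m * g * m⁻¹) * n⁻¹ ∈ seq M n i := by
  simp only [seq, mem_core, Subgroup.mem_inf, mem_map_conj hn]

theorem seq_conj {G : Type*} [Group G] {M : Subgroup G} {n : G} (hn : n * n = 1) {i : ℕ} {g a : G}
    (hg : g ∈ seq M n (i + 1)) (ha : a ∈ M) : a * g * a⁻¹ ∈ seq M n (i + 1) := by
  rw [mem_seq hn] at hg ⊢
  refine ⟨mul_mem (mul_mem ha hg.1) (inv_mem ha), fun m hm => ?_⟩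
  have := hg.2 (m * a) (mul_mem hm ha)
  rwa [show m * a * g * (m * a)⁻¹ = m * (a * g * a⁻¹) * m⁻¹ by group] at this

theorem seq_map {G : Type*} [Group G] {M : Subgroup G} {n : G} (hn : n * n = 1) (i : ℕ) :
    (seq M n (i + 1)).map (MulAut.conj n).toMonoidHom =
      ((seq M n i ⊓ (seq M n i).map (MulAut.conj n).toMonoidHom).subgroupOf
        (M.map (MulAut.conj n).toMonoidHom)).normalCore.map (M.map (MulAut.conj n).toMonoidHom).subtype := by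
  have hi : n⁻¹ = n := inv_eq_of_mul_eq_one_right hn
  have e : ∀ y, n * (n * y * n⁻¹) * n⁻¹ = y := fun y => by
    rw [← mul_assoc, ← mul_assoc, hn, one_mul, mul_assoc, hi, hn, mul_one]
  ext g
  simp only [mem_core, Subgroup.mem_inf, mem_map_conj hn, mem_seq hn]
  refine and_congr_right fun _ => ⟨fun h m hm => ?_, fun h m hm => ?_⟩
  · have := h _ hm
    rw [show n * m * n⁻¹ * (n * g * n⁻¹) * (n * m * n⁻¹)⁻¹ = n * (m * g * m⁻¹) * n⁻¹ by group, e] at this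
    exact this.symm
  · have := h (n * m * n⁻¹) (by rwa [e])
    rw [show n * m * n⁻¹ * g * (n * m * n⁻¹)⁻¹ = n * (m * (n⁻¹ * g * n⁻¹⁻¹) * m⁻¹) * n⁻¹ by group, e, inv_inv, hi] at this
    rw [hi]
    exact this.symm

theorem core_le_seq {G : Type*} [Group G] {M : Subgroup G} {n : G} (hn : n * n = 1) (i : ℕ) :
    M.normalCore ≤ seq M n i := by
  induction i with
  | zero => exact M.normalCore_le
  | succ i ih =>
    intro g hg
    have h := fun a => M.normalCore_normal.conj_mem g hg a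
    exact (mem_seq hn).2 ⟨M.normalCore_le hg, fun m _ => ⟨ih (h m), ih (M.normalCore_normal.conj_mem _ (h m) n)⟩⟩

variable {I Φ : Type*} [Fintype I] [DecidableEq I] {R : RootSys I Φ}

/-- The level function. -/
def lv (i₀ : I) : (I → ℤ) →+ ℤ := Pi.evalAddMonoidHom (fun _ => ℤ) i₀

theorem lv_apply (i₀ : I) (v : I → ℤ) : lv i₀ v = v i₀ := rfl

theorem inSub_iff {i₀ : I} {r : Φ} : R.InSub {i | i ≠ i₀} r ↔ R.rt r i₀ = 0 :=
  ⟨fun h => h i₀ (by simp), fun h i hi => by simpa using (by simpa using hi : i = i₀) ▸ h⟩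

theorem pos_or_iff {i₀ : I} {r : Φ} : (R.Pos r ∨ R.InSub {i | i ≠ i₀} r) ↔ 0 ≤ R.rt r i₀ := by
  rw [inSub_iff]
  refine ⟨fun h => h.elim (fun h => h i₀) fun h => h.ge, fun h => ?_⟩
  rcases h.lt_or_eq with h | h
  · exact Or.inl (R.pos_of_coeff_pos h)
  · exact Or.inr h.symm

theorem nil_lev (i₀ : I) {k : ℤ} (hk : 1 ≤ k) : R.Nil {r | k ≤ R.rt r i₀} (lv i₀) :=
  ⟨fun r hr s hs t ht => by
    have h1 : k ≤ R.rt r i₀ := hr
    have h2 : k ≤ R.rt s i₀ := hs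
    have := RootSys.le_of_mem_cone ht (f := lv i₀) (by rw [lv_apply]; omega) (by rw [lv_apply]; omega)
    simp only [lv_apply] at this
    change k ≤ R.rt t i₀
    omega, fun r hr => by
    have h1 : k ≤ R.rt r i₀ := hr
    rw [lv_apply]; omega⟩

theorem lev_s (i₀ : I) (r : Φ) : R.rt (R.s i₀ r) i₀ = R.rt r i₀ - R.pair (R.simple i₀) r := by
  rw [R.rt_s]; simp

theorem s_not_mem (i₀ : I) : R.s i₀ ∉ R.WJ {i | i ≠ i₀} := fun h => by
  have := RootSys.WJ_rt h (R.simple i₀) (j := i₀) (by simp)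
  simp [R.s_simple, R.rt_neg, R.rt_simple] at this

theorem exists_anti [Finite Φ] (i₀ : I) {r : Φ} (hr : 1 ≤ R.rt r i₀) : ∃ w ∈ R.WJ {i | i ≠ i₀},
    0 < R.pair (R.simple i₀) (w r) ∧ ∀ γ, R.Pos γ → R.rt γ i₀ = 0 → R.pair (w r) γ ≤ 0 := by
  let f : (I → ℤ) →+ ℤ := -(AddMonoidHom.mk' (R.pairV r) (R.pairV_add r))
  obtain ⟨w, hw, h⟩ := RootSys.exists_dominant (R := R) {i | i ≠ i₀} f
  have hw' := R.WJ_le_W _ hw
  have h1 : ∀ i, i ≠ i₀ → R.pair (w⁻¹ r) (R.simple i) ≤ 0 := fun i hi => by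
    have h2 : 0 ≤ -R.pair r (w (R.simple i)) := h i hi
    rw [← RootSys.W_pair hw', show w (w⁻¹ r) = r by simp]
    omega
  have h3 : R.rt (w⁻¹ r) i₀ = R.rt r i₀ := RootSys.WJ_rt (inv_mem hw) r (by simp)
  refine ⟨w⁻¹, inv_mem hw, ?_, fun γ h4 h5 => ?_⟩
  · obtain ⟨i, hi, -⟩ := R.exists_simple_pair_pos (R.pos_of_coeff_pos (r := w⁻¹ r) (i := i₀) (by omega))
    by_cases e : i = i₀
    · exact e ▸ hi
    · have := h1 i e
      rw [R.pair_pos_iff] at hi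
      omega
  · let f' : (I → ℤ) →+ ℤ := -(AddMonoidHom.mk' (R.pairV (w⁻¹ r)) (R.pairV_add _))
    have : 0 ≤ -R.pair (w⁻¹ r) γ := RootSys.fun_nonneg (J := {i | i ≠ i₀}) (f := f')
      (fun i hi => by have := h1 i hi; change 0 ≤ -R.pair (w⁻¹ r) (R.simple i); omega) h4 (inSub_iff.2 h5)
    omega

theorem exists_eq_simple [Finite Φ] (hsl : ∀ r s, s ≠ r → R.pair r s ≤ 1) (i₀ : I) {r : Φ} (hr : R.rt r i₀ = 1) :
    ∃ w ∈ R.WJ {i | i ≠ i₀}, w r = R.simple i₀ := by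
  obtain ⟨w, hw, h1, h2⟩ := exists_anti i₀ hr.ge
  refine ⟨w, hw, by_contra fun hne => ?_⟩
  have h3 : R.rt (w r) i₀ = 1 := (RootSys.WJ_rt hw r (by simp)).trans hr
  have h4 := hsl _ _ hne
  have h5 := hsl _ _ (Ne.symm hne)
  have h6 := h2 (R.s i₀ (w r)) (R.pos_s (R.pos_of_coeff_pos (i := i₀) (by omega)) hne) (by rw [lev_s]; omega)
  rw [R.s_apply, R.pair_refl_right, R.pair_self, show R.pair (R.simple i₀) (w r) = 1 by omega] at h6
  omega

variable [Finite Φ] {K : Type*} [Field K] {G : Type*} [Group G] {S : PreSys R K G}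

theorem n_mem_of_descent (hS : S.St) {X : Subgroup G} (hB : S.B ≤ X) {g : G} (hg : g ∈ X) {w : Equiv.Perm Φ} (hw : w ∈ R.W)
    (hc : g ∈ S.cell w) {i : I} (hi : ¬ R.Pos (w (R.simple i))) : S.n (R.simple i) 1 ∈ X := by
  obtain ⟨b, hb, m, hm, ha, b', hb', rfl⟩ := hc
  have hm' : m ∈ X := by simpa [mul_assoc] using mul_mem (mul_mem (inv_mem (hB hb)) hg) (inv_mem (hB hb'))
  have := hS.x_mem_of_conj (inv_mem hm') (ha.inv hw) fun t => hB (S.x_mem_B ((R.pos_neg_iff _).2 hi) t)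
  rw [← RootSys.W_neg hw, Equiv.Perm.coe_inv, Equiv.symm_apply_apply] at this
  have hx := fun t => hB (S.x_mem_B (R.pos_simple i) t)
  exact mul_mem (mul_mem (hx _) (this _)) (hx _)

theorem n_mem_cell (hS : S.St) (i : I) : S.n (R.simple i) 1 ∈ S.cell (R.s i) :=
  (hS.act_n _ one_ne_zero).mem_cell (S.n_mem_N _ one_ne_zero)

theorem n_inv_mem_cell (hS : S.St) (i : I) : (S.n (R.simple i) 1)⁻¹ ∈ S.cell (R.s i) :=
  R.s_inv i ▸ PreSys.inv_mem_cell (R.s_mem_W i) (n_mem_cell hS i)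

theorem conj_cell (hS : S.St) {j k : I} (h : j ≠ k) {x : G} (hx : x ∈ S.cell (R.s k)) :
    S.n (R.simple j) 1 * x * (S.n (R.simple j) 1)⁻¹ ∈ S.cell (R.s j * R.s k * R.s j) ∨
      (¬ R.Pos ((R.s j * R.s k) (R.simple j)) ∧ S.n (R.simple j) 1 * x * (S.n (R.simple j) 1)⁻¹ ∈ S.cell (R.s j * R.s k)) := by
  rcases hS.mul_mem_cell_left (R.s_mem_W k) (n_mem_cell hS j) hx with h1 | h1
  · exact hS.mul_mem_cell (mul_mem (R.s_mem_W j) (R.s_mem_W k)) h1 (n_inv_mem_cell hS j)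
  · exact absurd (by rw [R.s_inv]; exact R.pos_s (R.pos_simple j) (R.simple_inj.ne h)) h1.1

theorem isCoatom_P (hS : S.St) (hF : S.Sep) (hgen : S.U Set.univ = ⊤) (i₀ : I) : IsCoatom (S.P {i | i ≠ i₀}) := by
  have h0 : S.n (R.simple i₀) 1 ∉ S.P {i | i ≠ i₀} := fun h => hS.mem_of_n_mem_P hF h rfl
  refine ⟨fun h => h0 (h ▸ Subgroup.mem_top _), fun X hX => ?_⟩
  by_cases hn : S.n (R.simple i₀) 1 ∈ X
  · rw [eq_top_iff, ← hgen, ← hS.P_univ]
    refine PreSys.P_le_iff.2 ⟨(S.B_le_P _).trans hX.le, fun i _ => ?_⟩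
    by_cases e : i = i₀
    · exact e ▸ hn
    · exact hX.le (S.n_mem_P e)
  · refine absurd ?_ hX.not_ge
    rw [Cfsg.Lib.BN.eq_parabolic_of_le (P := hS.bn hF hgen) (H := X) ((S.B_le_P _).trans hX.le)]
    refine (Cfsg.Lib.BN.parabolic_le_iff _).2 ⟨S.B_le_P _, ?_⟩
    rintro _ ⟨⟨i, rfl⟩, h⟩
    exact S.n_mem_P (J := {i | i ≠ i₀}) (by rintro rfl; exact hn h)

theorem le_B (hS : S.St) (hF : S.Sep) (hR : R.Conn) (i₀ : I) {X : Subgroup G} (h1 : X ≤ S.P {i | i ≠ i₀})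
    (h2 : ∀ a ∈ S.P {i | i ≠ i₀}, ∀ x ∈ X, a * x * a⁻¹ ∈ X)
    (h3 : ∀ x ∈ X, S.n (R.simple i₀) 1 * x * (S.n (R.simple i₀) 1)⁻¹ ∈ S.P {i | i ≠ i₀}) : X ≤ S.B := by
  have hN : S.B ≤ Subgroup.normalizer (X : Set G) := fun b hb => Subgroup.mem_normalizer_iff.2 fun x =>
    ⟨h2 b (S.B_le_P _ hb) x, fun hx => by simpa [mul_assoc] using h2 _ (inv_mem (S.B_le_P _ hb)) _ hx⟩
  have key : ∀ j, S.n (R.simple j) 1 ∈ X ⊔ S.B → ∃ x ∈ X, x ∈ S.cell (R.s j) := fun j hj => by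
    have : S.n (R.simple j) 1 ∈ ((X ⊔ S.B : Subgroup G) : Set G) := hj
    rw [Subgroup.coe_mul_of_right_le_normalizer_left _ _ hN] at this
    obtain ⟨x, hx, b, hb, e⟩ := this
    refine ⟨x, hx, ?_⟩
    rw [show x = S.n (R.simple j) 1 * b⁻¹ by rw [← e]; simp]
    exact PreSys.mul_B_mem_cell (n_mem_cell hS j) (inv_mem hb)
  have hi₀ : ¬ ∃ x ∈ X, x ∈ S.cell (R.s i₀) := fun ⟨x, hx, hc⟩ =>
    s_not_mem i₀ (hS.mem_WJ_of_mem_P hF (R.s_mem_W i₀) hc (h1 hx))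
  intro g hg
  by_contra hB
  obtain ⟨i, hi⟩ := hS.exists_P_le hF (X := X ⊔ S.B) le_sup_right (Subgroup.mem_sup_left hg) (S.P_le_univ _ (h1 hg)) hB
  obtain ⟨k, ⟨x, hx, hc⟩, j, hj, hA⟩ := hR {k | ∃ x ∈ X, x ∈ S.cell (R.s k)} ⟨i, key i (hi (S.n_mem_P rfl))⟩ ⟨i₀, hi₀⟩
  have hjk : j ≠ k := by rintro rfl; exact hj ⟨x, hx, hc⟩
  by_cases e : j = i₀
  · subst e
    have hk : R.s k ∈ R.WJ {i | i ≠ j} := R.s_mem_WJ (Ne.symm hjk)
    rcases conj_cell hS hjk hc with h | h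
    · have h4 := hS.mem_WJ_of_mem_P hF (mul_mem (mul_mem (R.s_mem_W j) (R.s_mem_W k)) (R.s_mem_W j)) h (h3 x hx)
      have h5 := RootSys.WJ_rt h4 (R.s j (R.simple k)) (j := j) (by simp)
      simp only [Equiv.Perm.mul_apply, R.s_s, R.s_simple, RootSys.W_neg (R.s_mem_W j), R.rt_neg, Pi.neg_apply, lev_s,
        R.rt_simple] at h5
      rw [← R.pair_simple_simple, Ne, R.pair_eq_zero_iff] at hA
      rw [Pi.single_eq_of_ne hjk] at h5
      omega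
    · have h4 := hS.mem_WJ_of_mem_P hF (mul_mem (R.s_mem_W j) (R.s_mem_W k)) h.2 (h3 x hx)
      exact s_not_mem j (by simpa using mul_mem h4 (inv_mem hk))
  · have hy := h2 _ (S.n_mem_P (J := {i | i ≠ i₀}) e) x hx
    refine hj (key j ?_)
    rcases conj_cell hS hjk hc with h | h
    · refine n_mem_of_descent hS le_sup_right (Subgroup.mem_sup_left hy)
        (mul_mem (mul_mem (R.s_mem_W j) (R.s_mem_W k)) (R.s_mem_W j)) h ?_
      simp only [Equiv.Perm.mul_apply, R.s_simple, RootSys.W_neg (R.s_mem_W _), R.pos_neg_iff, not_not]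
      refine R.pos_s (R.pos_s (R.pos_simple j) (R.simple_inj.ne hjk)) fun h => hA ?_
      have := congrArg (fun r => R.rt r k) h
      simpa [lev_s, R.pair_simple_simple] using this
    · exact n_mem_of_descent hS le_sup_right (Subgroup.mem_sup_left hy) (mul_mem (R.s_mem_W j) (R.s_mem_W k)) h.2 h.1

theorem le_inv (hS : S.St) (hF : S.Sep) (hO : S.Opp) {J : Set I} {X : Subgroup G}
    (h2 : ∀ a ∈ S.P J, ∀ x ∈ X, a * x * a⁻¹ ∈ X) {T : Set Φ} {f : (I → ℤ) →+ ℤ} (hT : R.Nil T f) (h : X ≤ S.U T) :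
    X ≤ S.U {r | ∀ w ∈ R.WJ J, w r ∈ T} := by
  have key : ∀ D : Set (Equiv.Perm Φ), D.Finite → D ⊆ R.WJ J →
      R.Nil {r | r ∈ T ∧ ∀ w ∈ D, w r ∈ T} f ∧ X ≤ S.U {r | r ∈ T ∧ ∀ w ∈ D, w r ∈ T} := by
    intro D hD
    induction D, hD using Set.Finite.induction_on with
    | empty => intro _; simpa using And.intro hT h
    | @insert w D _ _ ih =>
      intro hD
      obtain ⟨ih1, ih2⟩ := ih ((Set.subset_insert _ _).trans hD)
      have hw : w ∈ R.WJ J := hD (Set.mem_insert _ _)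
      have hw' := R.WJ_le_W _ hw
      obtain ⟨f', hf'⟩ := hT.preimage hw'
      have e : {r | r ∈ T ∧ ∀ w' ∈ insert w D, w' r ∈ T} = {r | r ∈ T ∧ ∀ w ∈ D, w r ∈ T} ∩ w ⁻¹' T := by
        ext r; simp only [Set.mem_setOf_eq, Set.forall_mem_insert, Set.mem_inter_iff, Set.mem_preimage]; tauto
      rw [e, ← hS.U_inf_nil hF hO ih1 hf']
      refine ⟨ih1.inter hf'.closed, le_inf ih2 fun x hx => ?_⟩
      obtain ⟨m, hm, ha⟩ := hS.exists_rep hw'
      have := (ha.inv hw').conj_mem (T' := w ⁻¹' T) (fun r hr => by simpa using hr)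
        (h (h2 m (hS.mem_P_of_cell hF hw (ha.mem_cell hm)) x hx))
      simpa [mul_assoc] using this
  exact (key _ (Set.toFinite _) le_rfl).2.trans (S.U_mono fun r hr => hr.2)

theorem P_eq_lev (hS : S.St) (hH : S.H = ⊥) (i₀ : I) : S.P {i | i ≠ i₀} = S.U {r | 0 ≤ R.rt r i₀} := by
  rw [hS.P_eq, hH, bot_sup_eq]
  simp only [pos_or_iff]

theorem n_sq (hH : S.H = ⊥) (r : Φ) : S.n r 1 * S.n r 1 = 1 :=
  Subgroup.mem_bot.1 (hH ▸ S.n_mul_n_mem_H r one_ne_zero one_ne_zero)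

theorem lower (hS : S.St) (hH : S.H = ⊥) (hsl : ∀ r s, s ≠ r → R.pair r s ≤ 1) (i₀ : I) (i : ℕ) :
    S.U {r | (i : ℤ) + 1 ≤ R.rt r i₀} ≤ seq (S.P {i | i ≠ i₀}) (S.n (R.simple i₀) 1) i := by
  induction i with
  | zero => rw [seq, P_eq_lev hS hH]; exact S.U_mono fun r hr => by simp only [Set.mem_setOf_eq] at hr ⊢; omega
  | succ i ih =>
    intro g hg
    rw [mem_seq (n_sq hH _), P_eq_lev hS hH]
    refine ⟨S.U_mono (fun r hr => by simp only [Set.mem_setOf_eq] at hr ⊢; omega) hg, fun m hm => ?_⟩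
    have h1 : m * g * m⁻¹ ∈ S.U {r | ((i + 1 : ℕ) : ℤ) + 1 ≤ R.rt r i₀} := by
      refine S.conj_mem (fun s hs r hr => ?_) hm hg
      simp only [Set.mem_setOf_eq] at hr hs
      refine ⟨?_, fun t ht => ?_⟩
      · rintro rfl
        rw [R.rt_neg, Pi.neg_apply] at hr; omega
      · have := RootSys.le_of_mem_cone ht (f := lv i₀) (by rw [lv_apply]; omega) (by rw [lv_apply]; omega)
        simp only [lv_apply] at this
        simp only [Set.mem_setOf_eq]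
        omega
    rw [← P_eq_lev hS hH]
    refine ⟨ih (S.U_mono (fun r hr => by simp only [Set.mem_setOf_eq] at hr ⊢; omega) h1),
      ih ((hS.act_n _ one_ne_zero).conj_mem (fun r hr => ?_) h1)⟩
    simp only [Set.mem_setOf_eq] at hr ⊢
    have h2 := hsl (R.simple i₀) r (by rintro rfl; simp [R.rt_simple] at hr; omega)
    have h3 := lev_s (R := R) i₀ r
    change _ ≤ R.rt (R.s i₀ r) i₀
    omega

theorem upper (hS : S.St) (hF : S.Sep) (hO : S.Opp) (hR : R.Conn) (hH : S.H = ⊥) (hsl : ∀ r s, s ≠ r → R.pair r s ≤ 1)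
    (i₀ : I) (i : ℕ) : seq (S.P {i | i ≠ i₀}) (S.n (R.simple i₀) 1) (i + 1) ≤ S.U {r | (i : ℤ) + 2 ≤ R.rt r i₀} := by
  have hn := n_sq hH (R.simple i₀)
  have hi : (S.n (R.simple i₀) 1)⁻¹ = S.n (R.simple i₀) 1 := inv_eq_of_mul_eq_one_right hn
  have h0 : ∀ i x, x ∈ seq (S.P {i | i ≠ i₀}) (S.n (R.simple i₀) 1) (i + 1) →
      x ∈ seq (S.P {i | i ≠ i₀}) (S.n (R.simple i₀) 1) i ∧
      S.n (R.simple i₀) 1 * x * (S.n (R.simple i₀) 1)⁻¹ ∈ seq (S.P {i | i ≠ i₀}) (S.n (R.simple i₀) 1) i := fun i x hx => by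
    simpa using ((mem_seq hn).1 hx).2 1 (one_mem _)
  induction i with
  | zero =>
    have h1 := le_B hS hF hR i₀ (X := seq (S.P {i | i ≠ i₀}) (S.n (R.simple i₀) 1) (0 + 1)) (fun x hx => (h0 0 x hx).1)
      (fun a ha x hx => seq_conj hn hx ha) fun x hx => (h0 0 x hx).2
    have h2 : seq (S.P {i | i ≠ i₀}) (S.n (R.simple i₀) 1) (0 + 1) ≤ S.U ({r | R.Pos r} \ {R.simple i₀}) := fun x hx => by
      have h3 := h1 hx
      rw [PreSys.B, hH, sup_bot_eq] at h3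
      obtain ⟨a, ha, b, hb, rfl⟩ := S.exists_mul R.nil_pos {R.simple i₀} h3
      obtain ⟨t, rfl⟩ := S.mem_U_singleton.1 (S.U_mono Set.inter_subset_right ha)
      have h4 : S.n (R.simple i₀) 1 * b * (S.n (R.simple i₀) 1)⁻¹ ∈ S.P {i | i ≠ i₀} :=
        S.B_le_P _ (S.U_le_B ((hS.act_n _ one_ne_zero).conj_mem (fun r hr => R.pos_s hr.1 hr.2) hb))
      have h5 : S.n (R.simple i₀) 1 * S.x (R.simple i₀) t * (S.n (R.simple i₀) 1)⁻¹ ∈ S.P {i | i ≠ i₀} := by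
        have := mul_mem (h0 0 _ hx).2 (inv_mem h4)
        simpa [mul_assoc, seq] using this
      rw [hS.n_conj_self _ one_ne_zero] at h5
      have h6 : S.x (R.neg (R.simple i₀)) (-((1 : K)⁻¹ ^ 2 * t)) ∈
          S.U {r | ¬ R.Pos r ∧ ¬ R.InSub {i | i ≠ i₀} r} ⊓ S.P {i | i ≠ i₀} :=
        ⟨S.x_mem_U (T := {r | ¬ R.Pos r ∧ ¬ R.InSub {i | i ≠ i₀} r})
          ⟨R.not_pos_neg_simple i₀, by simp [inSub_iff, R.rt_neg, R.rt_simple]⟩ _, h5⟩
      rw [hS.neg_radical_inf_P hF hO, Subgroup.mem_bot] at h6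
      have h7 : t = 0 := by simpa using hF.x_eq_one h6
      rwa [h7, S.x_zero, one_mul]
    have hT : R.Nil ({r | R.Pos r} \ {R.simple i₀}) RootSys.htL := R.nil_pos.mono Set.diff_subset fun r hr s hs t ht =>
      ⟨RootSys.pos_of_mem_cone ht hr.1 hs.1, by
        rintro rfl
        have h3 := RootSys.le_of_mem_cone ht (f := RootSys.htL) (R.ht_pos hr.1).le (R.ht_pos hs.1).le
        have h4 := R.ht_pos hr.1
        have h5 := R.ht_pos hs.1
        simp only [R.htL_rt, R.ht_simple] at h3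
        omega⟩
    refine (le_inv hS hF hO (fun a ha x hx => seq_conj hn hx ha) hT h2).trans (S.U_mono fun r hr => ?_)
    have h3 : R.Pos r := (hr 1 (one_mem _)).1
    have h4 : 0 ≤ R.rt r i₀ := h3 i₀
    have h5 : R.rt r i₀ ≠ 0 := fun h => by
      have := (hr _ (R.reflPerm_mem_WJ (inSub_iff.2 h))).1
      rw [R.reflPerm_apply, R.refl_self] at this
      exact (R.pos_neg_iff r).1 this h3
    have h6 : R.rt r i₀ ≠ 1 := fun h => by
      obtain ⟨w, hw, e⟩ := exists_eq_simple hsl i₀ h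
      exact (hr w hw).2 e
    simp only [Set.mem_setOf_eq]
    omega
  | succ i ih =>
    have hT := nil_lev (R := R) i₀ (k := (i : ℤ) + 2) (by omega)
    obtain ⟨f', hf'⟩ := hT.preimage (R.s_mem_W i₀)
    have h2 : seq (S.P {i | i ≠ i₀}) (S.n (R.simple i₀) 1) (i + 1 + 1) ≤
        S.U ({r | (i : ℤ) + 2 ≤ R.rt r i₀} ∩ R.s i₀ ⁻¹' {r | (i : ℤ) + 2 ≤ R.rt r i₀}) := by
      rw [← hS.U_inf_nil hF hO hT hf']
      refine fun x hx => ⟨ih (h0 _ x hx).1, ?_⟩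
      have := ((hS.act_n _ one_ne_zero).inv (R.s_mem_W i₀)).conj_mem (T' := R.s i₀ ⁻¹' {r | (i : ℤ) + 2 ≤ R.rt r i₀})
        (fun r hr => by
          rw [Set.mem_preimage]
          change (R.s i₀) ((R.s i₀)⁻¹ r) ∈ {r | (i : ℤ) + 2 ≤ R.rt r i₀}
          rwa [show (R.s i₀) ((R.s i₀)⁻¹ r) = r by simp]) (ih (h0 _ x hx).2)
      simpa [mul_assoc] using this
    refine (le_inv hS hF hO (fun a ha x hx => seq_conj hn hx ha) (hT.inter hf'.closed) h2).trans (S.U_mono fun r hr => ?_)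
    have h3 : (i : ℤ) + 2 ≤ R.rt r i₀ := (hr 1 (one_mem _)).1
    obtain ⟨w, hw, h4, -⟩ := exists_anti (R := R) i₀ (r := r) (by omega)
    have h5 : (i : ℤ) + 2 ≤ R.rt (R.s i₀ (w r)) i₀ := (hr w hw).2
    rw [lev_s, RootSys.WJ_rt hw r (by simp)] at h5
    simp only [Set.mem_setOf_eq]
    push_cast
    omega

theorem ne_map (hS : S.St) (hF : S.Sep) (hgen : S.U Set.univ = ⊤) (hH : S.H = ⊥) (i₀ : I) :
    S.P {i | i ≠ i₀} ≠ (S.P {i | i ≠ i₀}).map (MulAut.conj (S.n (R.simple i₀) 1)).toMonoidHom := fun h => by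
  refine hS.mem_of_n_mem_P hF (J := {i | i ≠ i₀}) (i := i₀) ?_ rfl
  refine Cfsg.Lib.BN.mem_of_conj_B_le (P := hS.bn hF hgen) (S.B_le_P _) fun b hb => ?_
  exact (mem_map_conj (n_sq hH _)).1 (h ▸ S.B_le_P _ hb)

end Cfsg.Lib.Chev.ItCore
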