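/-
The Chevalley groups of types D4 and B2 as orthogonal groups.
-/
import Cfsg.Agent.Lib.Chev.Rep
import Cfsg.Agent.Lib.Linear.MultC
import Cfsg.Agent.Lib.Forms.Bridge
import Cfsg.Agent.Lib.Forms.Std
import Cfsg.Agent.Lib.Linear.RootBCD

set_option autoImplicit false

namespace Cfsg.Lib.Chev

open Subgroup Function Cfsg.Lie Cfsg.Lib.Twist Matrix Cfsg.Lib.Forms Cfsg.Lib.Linear
open scoped commutatorElement

universe u

section

variable {F V : Type*} [Field F] [AddCommGroup V] [Module F V] {D : Form (quadKind F) V} {e f e' f' : V}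
  (h : D.IsHyp e f) (h' : D.IsHyp e' f') (he : e' ∈ D.hp e f) (hf : f' ∈ D.hp e f)
include h h' he hf

theorem exists_E_one {x : V} (hx : ∃ y, D.B y x ≠ 0) : ∃ g ∈ D.E, D.B e (g.1 x) = 1 := by
  have k1 : ∀ x, ∀ z ∈ D.hp e f, D.B e x + D.B z x - D.B f x * D.Q z = 1 → ∃ g ∈ D.E, D.B e (g.1 x) = 1 := fun x z hz h1 =>
    ⟨_, Form.eich_mem_E _ _ _ (Form.isEich_quad h.Q_f (D.mem_hp.1 hz).2), by
      simp only [Form.eich_apply, D.B_lin, h.B_ef, (D.mem_hp.1 hz).1, quadKind_ε]; linear_combination h1⟩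
  have k2 : ∀ x, D.B f x = 0 → ∀ z ∈ D.hp e f, D.B z x ≠ 0 → ∃ g ∈ D.E, D.B e (g.1 x) = 1 := fun x h1 z hz h2 =>
    k1 x (((1 - D.B e x) / D.B z x) • z) (Submodule.smul_mem _ _ hz) (by simp only [h1, D.B_lin, RingHom.id_apply]; field_simp; ring)
  by_cases h1 : D.B f x = 0
  · by_cases h2 : ∃ z ∈ D.hp e f, D.B z x ≠ 0
    · exact h2.elim fun z hz => k2 x h1 z hz.1 hz.2
    push Not at h2
    have h3 : D.B e x ≠ 0 := fun h3 => by
      obtain ⟨y, hy⟩ := hx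
      obtain ⟨w, hw, e⟩ := h.exists_comb y
      exact hy (by rw [e]; simp only [D.B_lin, h1, h3, h2 w hw]; simp)
    obtain ⟨g, hg, h4⟩ := k2 ((D.eich e e' _ (Form.isEich_quad h.Q_e (D.mem_hp.1 he).1)).1 x) (by
      simp [Form.eich_apply, h1, h2 e' he, h'.Q_e, (D.mem_hp.1 he).2]) f' hf (by
      simp [Form.eich_apply, h2 f' hf, h2 e' he, h'.Q_e, h'.B_fe, h3])
    exact ⟨_, mul_mem hg (Form.eich_mem_E _ _ _ _), h4⟩
  obtain ⟨s, hs⟩ : ∃ s, D.B f' x - D.B f x * s ≠ 0 := by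
    by_cases h2 : D.B f' x = 0
    exacts [⟨1, by simpa [h2]⟩, ⟨0, by simpa⟩]
  refine k1 x (s • e' + ((1 - D.B e x - s * D.B e' x) / (D.B f' x - D.B f x * s)) • f')
    (add_mem (Submodule.smul_mem _ _ he) (Submodule.smul_mem _ _ hf)) ?_
  simp only [h'.Q_smul_add, D.B_lin, RingHom.id_apply]
  linear_combination div_mul_cancel₀ (1 - D.B e x - s * D.B e' x) hs

theorem exists_E_map {x y : V} (hx : ∃ z, D.B z x ≠ 0) (hy : ∃ z, D.B z y ≠ 0) (hQ : D.Q x = D.Q y) : ∃ g ∈ D.E, g.1 x = y := by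
  obtain ⟨g, hg, h1⟩ := exists_E_one h h' he hf hx
  obtain ⟨k, hk, h2⟩ := exists_E_one h h' he hf hy
  obtain ⟨d, h3, h4⟩ := D.exists_eich_map h.Q_e (h1.trans h2.symm) (h1 ▸ one_ne_zero) (by simpa using hQ)
  exact ⟨_, mul_mem (inv_mem hk) (mul_mem (Form.eich_mem_E _ _ _ h3) hg), by
    rw [Form.isom_mul_apply, Form.isom_mul_apply, h4, Form.isom_inv_apply]⟩

theorem commutator_le_E (H : ∀ G : Subgroup D.isom, (∀ v, D.refl v ∈ G) → D.E ≤ G → G = ⊤) : commutator D.isom ≤ D.E := by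
  have k1 : ∀ {a b}, D.IsHyp a b → ∀ v, QuotientGroup.mk' D.E (D.refl v) = 1 ∨
      QuotientGroup.mk' D.E (D.refl v) = QuotientGroup.mk' D.E (D.refl (a + D.Q v • b)) := fun {a b} hab v => by
    by_cases h1 : ∃ z, D.B z v ≠ 0
    · obtain ⟨g, hg, h2⟩ := exists_E_map h h' he hf h1 (y := a + D.Q v • b) ⟨b, by simp [hab.B_fe, hab.B_ff]⟩
        (by simpa using (hab.Q_smul_add 1 (D.Q v)).symm)
      rw [← h2, ← Form.conj_refl, map_mul, map_mul, map_inv, show QuotientGroup.mk' D.E g = 1 from (QuotientGroup.eq_one_iff g).2 hg]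
      simp
    · push Not at h1
      exact Or.inl (by rw [show D.refl v = 1 from Form.isom_ext fun x => Form.refl_apply_of_perp (D.eq_zero_symm (h1 x)), map_one])
  refine commutator_le_of_closure (s := {g | g ∈ D.E ∨ ∃ v, g = D.refl v})
    (H _ (fun v => subset_closure (Or.inr ⟨v, rfl⟩)) fun g hg => subset_closure (Or.inl hg)) _ fun x hx y hy => ?_
  refine (QuotientGroup.eq_one_iff _).1 ((map_commutatorElement (QuotientGroup.mk' D.E) x y).trans (commutatorElement_eq_one_iff_mul_comm.2 ?_))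
  rcases hx with hx | ⟨v, rfl⟩
  · rw [show QuotientGroup.mk' D.E x = 1 from (QuotientGroup.eq_one_iff x).2 hx]; simp
  rcases hy with hy | ⟨w, rfl⟩
  · rw [show QuotientGroup.mk' D.E y = 1 from (QuotientGroup.eq_one_iff y).2 hy]; simp
  rcases k1 h v with h1 | h1
  · simp only [h1, one_mul, mul_one]
  rcases k1 h' w with h2 | h2
  · simp only [h2, one_mul, mul_one]
  rw [h1, h2, ← map_mul, ← map_mul, Form.refl_comm (by simp [D.mem_hp.1 he, D.mem_hp.1 hf])]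

theorem eq_top_of_five {o : V} (ho : D.Q o = 1) (h1 : o ∈ D.hp e f) (h2 : o ∈ D.hp e' f')
    (h3 : ∀ x ∈ D.hp e f, x ∈ D.hp e' f' → ∃ c : F, x = c • o) (G : Subgroup D.isom) (hr : ∀ v, D.refl v ∈ G) (hE : D.E ≤ G) : G = ⊤ := by
  have hk : ∀ p c h, D.rk1 p c h ∈ G := fun p c h => (Form.rk1_eq_one_or h).elim (fun e => e ▸ one_mem _) fun e => e.2 ▸ hr p
  have hp : ∀ {a b} (g : D.isom), g.1 a = a → g.1 b = b → ∀ x ∈ D.hp a b, g.1 x ∈ D.hp a b := fun g ha hb x hx =>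
    D.mem_hp.2 ⟨by rw [← ha, Form.B_isom, (D.mem_hp.1 hx).1], by rw [← hb, Form.B_isom, (D.mem_hp.1 hx).2]⟩
  have hc : ∀ x ∈ D.hp e f, ∃ c : F, x = D.B f' x • e' + D.B e' x • f' + c • o := fun x hx => by
    obtain ⟨c, hc⟩ := h3 _ (sub_mem (sub_mem hx (Submodule.smul_mem _ _ he)) (Submodule.smul_mem _ _ hf)) (h'.proj_mem x)
    exact ⟨c, by rw [← hc]; simp⟩
  have s5 : ∀ g : D.isom, g.1 e = e → g.1 f = f → g.1 e' = e' → g.1 f' = f' → g ∈ G := fun g a1 a2 a3 a4 => by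
    have ext : ∀ k : D.isom, k.1 e = e → k.1 f = f → k.1 e' = e' → k.1 f' = f' → g.1 o = k.1 o → g = k := fun k b1 b2 b3 b4 b5 =>
      Form.isom_ext fun x => by
        obtain ⟨w, hw, e1⟩ := h.exists_comb x
        obtain ⟨c, e2⟩ := hc w hw
        rw [e1, e2]; simp only [map_add, map_smul, a1, a2, a3, a4, b1, b2, b3, b4, b5]
    obtain ⟨c, e1⟩ := h3 _ (hp g a1 a2 o h1) (hp g a3 a4 o h2)
    have e2 : c ^ 2 = 1 := by rw [← ho, ← Form.Q_isom g o, e1, quad_Q_smul, ho, mul_one]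
    rcases sq_eq_one_iff.1 e2 with rfl | rfl
    · exact ext 1 rfl rfl rfl rfl (by rw [e1, one_smul]; rfl) ▸ one_mem _
    · have := fun x h => Form.refl_apply_of_perp (D := D) (v := o) (x := x) (D.eq_zero_symm h)
      exact ext (D.refl o) (this _ (D.mem_hp.1 h1).1) (this _ (D.mem_hp.1 h1).2) (this _ (D.mem_hp.1 h2).1) (this _ (D.mem_hp.1 h2).2)
        (by rw [e1, Form.refl_apply_self (ho ▸ one_ne_zero), neg_one_smul]) ▸ hr o
  have s4 : ∀ g : D.isom, g.1 e = e → g.1 f = f → g.1 e' = e' → g ∈ G := fun g a1 a2 a3 => by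
    have b1 : D.B e' (g.1 f') = D.B e' f' := by nth_rw 1 [← a3]; exact Form.B_isom g _ _
    obtain ⟨d, b2, b3⟩ := D.exists_eich_map h'.Q_e b1 (by rw [b1, h'.B_ef]; exact one_ne_zero) (Form.Q_isom g f')
    have b4 := D.mem_hp.1 (Submodule.smul_mem _ ((quadKind F).ε * D.B e' (g.1 f'))⁻¹ (sub_mem (hp g a1 a2 _ hf) hf))
    refine (mul_mem_cancel_left (hE (Form.eich_mem_E _ _ _ b2))).1 (s5 _ ?_ ?_ ?_ b3) <;> rw [Form.isom_mul_apply]
    · rw [a1, D.eich_apply_of_perp_perp _ (D.eq_zero_symm (D.mem_hp.1 he).1) (D.eq_zero_symm b4.1)]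
    · rw [a2, D.eich_apply_of_perp_perp _ (D.eq_zero_symm (D.mem_hp.1 he).2) (D.eq_zero_symm b4.2)]
    · rw [a3, D.eich_apply_self]
  have mv : ∀ g : D.isom, g.1 e = e → g.1 f = f → ∀ y ∈ D.hp e f, D.Q y = 0 → D.B y (g.1 e') ≠ 0 →
      ∃ k ∈ G, (k * g).1 e = e ∧ (k * g).1 f = f ∧ (k * g).1 e' = y := fun g a1 a2 y hy b1 b2 => by
    have b3 : D.Q (g.1 e') = 0 := by rw [Form.Q_isom, h'.Q_e]
    obtain ⟨c, hc, b4⟩ := D.exists_rk1_map (b3.trans b1.symm) (by rwa [D.B_sub_left, D.B_self_of_Q b3, sub_zero])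
    have b5 := D.mem_hp.1 (sub_mem hy (hp g a1 a2 _ he))
    exact ⟨_, hk _ c hc, by rw [Form.isom_mul_apply, a1, D.rk1_apply_of_perp _ _ (D.eq_zero_symm b5.1)],
      by rw [Form.isom_mul_apply, a2, D.rk1_apply_of_perp _ _ (D.eq_zero_symm b5.2)], b4⟩
  have s3' : ∀ g : D.isom, g.1 e = e → g.1 f = f → D.B e' (g.1 e') ≠ 0 → g ∈ G := fun g a1 a2 a3 => by
    obtain ⟨k, b1, b2, b3, b4⟩ := mv g a1 a2 e' he h'.Q_e a3
    exact (mul_mem_cancel_left b1).1 (s4 _ b2 b3 b4)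
  have s3 : ∀ g : D.isom, g.1 e = e → g.1 f = f → g ∈ G := fun g a1 a2 => by
    by_cases a3 : D.B f' (g.1 e') = 0
    · refine s3' g a1 a2 fun a4 => ?_
      obtain ⟨c, hc⟩ := hc _ (hp g a1 a2 _ he)
      rw [a3, a4, zero_smul, zero_smul, zero_add, zero_add] at hc
      have b1 : c ^ 2 = 0 := by rw [← h'.Q_e, ← Form.Q_isom g e', hc, quad_Q_smul, ho, mul_one]
      exact h'.e_ne_zero (g.1.injective (by rw [hc, pow_eq_zero_iff two_ne_zero |>.1 b1]; simp))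
    obtain ⟨k, b1, b2, b3, b4⟩ := mv g a1 a2 f' hf h'.Q_f a3
    exact (mul_mem_cancel_left b1).1 (s3' _ b2 b3 (by rw [b4, h'.B_ef]; exact one_ne_zero))
  have s2 : ∀ g : D.isom, g.1 e = e → g ∈ G := fun g a1 => by
    have b1 : D.B e (g.1 f) = D.B e f := by nth_rw 1 [← a1]; exact Form.B_isom g _ _
    obtain ⟨d, b2, b3⟩ := D.exists_eich_map h.Q_e b1 (by rw [b1, h.B_ef]; exact one_ne_zero) (Form.Q_isom g f)
    exact (mul_mem_cancel_left (hE (Form.eich_mem_E _ _ _ b2))).1 (s3 _ (by rw [Form.isom_mul_apply, a1, D.eich_apply_self]) b3)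
  refine eq_top_iff.2 fun g _ => ?_
  obtain ⟨k, b1, b2⟩ := exists_E_map h h' he hf (x := g.1 e) (y := e) ⟨g.1 f, by simp [h.B_fe]⟩ ⟨f, by simp [h.B_fe]⟩ (Form.Q_isom g e)
  exact (mul_mem_cancel_left (hE b1)).1 (s2 _ b2)

end

theorem Compat.exists_quot {D : ChevalleyDatum} {R : RootSys (Fin D.rank) (Fin D.nroots)} (hc : Compat D R) {η : ℕ → ℕ → ℤ} (hm : MatOK D η)
    (hD : D ∈ [chevG2, chevB2, chevD4, chevF4, chevE6, chevE7, chevE8]) {K G : Type*} [Field K] [Group G] {S : PreSys R K G}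
    (hE : S.Exact fun r s => termsF D r s) (hM : S.Mult) (hF : S.Sep) (hO : S.Opp) (hgen : S.U Set.univ = ⊤) :
    ∃ θ : G →* D.group K, Surjective θ ∧ θ.ker = center G ∧ ∀ r t, θ (S.x r t) = (hc.gsys hm K).x r t := by
  obtain ⟨φ, hφ⟩ := hc.exists_st_hom hE hM
  obtain ⟨θ, hθ⟩ := hc.exists_st_proj hm (K := K)
  have hS := hc.st_of_exact hm hD (hc.st_exact (K := K))
  have h1 : φ.ker ≤ θ.ker := hc.ker_eq_center hm hS hc.st_gen hθ ▸ hS.ker_le_center hF hO hφ hc.st_gen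
  have h2 : ∀ r t, φ.liftOfSurjective (PreSys.surjective_of_gen hφ hgen) ⟨θ, h1⟩ (S.x r t) = (hc.gsys hm K).x r t := fun r t => by
    rw [← hφ, MonoidHom.liftOfRightInverse_comp_apply, ← hθ]
  exact ⟨_, PreSys.surjective_of_gen h2 (hc.ggen hm), hc.ker_eq_center hm (hc.st_of_exact hm hD hE) hgen h2, h2⟩

/-- The columns of the Eichler root elements. -/
def colE (iv A B : ℕ → ℕ) (C : ℕ → ℤ) (r q : ℕ) : List (ℕ × ℤ × ℕ) :=
  (if q = iv (B r) then [(A r, C r * if iv (B r) = B r then 2 else 1, 1)] else []) ++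
    if q = iv (A r) then (B r, -C r, 1) :: if iv (B r) = B r then [(A r, -1, 2)] else [] else []

theorem exists_orth {D : ChevalleyDatum} {t : RTab} (h : RootOK D t) {η : ℕ → ℕ → ℤ} (hm : MatOK D η)
    (hD : D ∈ [chevG2, chevB2, chevD4, chevF4, chevE6, chevE7, chevE8]) {n : ℕ} {iv A B : ℕ → ℕ} {C : ℕ → ℤ} {deg : ℕ → ℕ → ℤ} {μ : ℕ → ℕ → List ℕ}
    (hk : chkRep D t 0 n (colE iv A B C) deg μ = true)
    (h1 : ∀ r < D.nroots, A r < n ∧ B r < n ∧ iv (A r) ≠ A r ∧ B r ≠ iv (A r) ∧ B r ≠ A r ∧ C r * C r = 1)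
    (h2 : ∀ a < n, ∀ b < n, iv a = a ∨ b = iv a ∨ b = a ∨ ∃ r < D.nroots, A r = a ∧ B r = b ∨ A r = b ∧ B r = a)
    {ι : Type} {J I : Type*} [Fintype ι] [DecidableEq ι] [Fintype J] [Fintype I] [DecidableEq I] {W : WtData ι J} (hW : ¬ W.lg) (e : Fin n ≃ ι)
    (he : ∀ k l : Fin n, W.inv (e k) = e l ↔ iv k = l) (β : W.Base I) {F : Type u} [Field F] {Q : Form (quadKind F) (ι → F)} (T : Frame W Q)
    (h3 : D = chevG2 ∨ D = chevB2 → ∃ a : F, a ≠ 0 ∧ a ≠ 1) (h4 : commutator Q.isom ≤ Q.E) :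
    Nonempty (D.group F ≃* (commutator Q.isom ⧸ center (commutator Q.isom))) := by
  obtain ⟨S, a1, a2, a3, a4, a5, a6, -⟩ := exists_rep h hm hD hk F Nat.cast_zero
  let π : Q.isom →* GL (Fin n) F := (Units.map (reindexAlgEquiv F F e.symm).toMonoidHom).comp (eichSelf Q).mat
  have b1 : ∀ g p q, (π g).val p q = g.1 (bv F (e q)) (e p) := fun g p q => (eichSelf Q).mat_apply g _ _
  have b2 : Injective π := (Units.map_injective (reindexAlgEquiv F F e.symm).injective).comp ((glEquiv ι F).symm.injective.comp Subtype.val_injective)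
  have b3 : ∀ r : Fin D.nroots, ∃ a b : Fin n, (a : ℕ) = A r ∧ (b : ℕ) = B r ∧ W.Val (e a) (e b) ∧ ∀ u, π (Frame.X W (eichSelf Q) (e a) (e b) (C r * u)) = S.x r u :=
    fun r => by
    obtain ⟨c1, c2, c3, c4, c5, c6⟩ := h1 r r.2
    have c7 : W.Val (e ⟨_, c1⟩) (e ⟨_, c2⟩) := ⟨mt (he _ _).1 c3, fun h => c4 ((he _ _).1 h.symm).symm, fun h => absurd (congrArg Fin.val (e.injective h)) c5⟩
    refine ⟨⟨_, c1⟩, ⟨_, c2⟩, rfl, rfl, c7, fun u => Units.ext (Matrix.ext fun p q => ?_)⟩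
    have c8 : (C r : F) * C r = 1 := by exact_mod_cast congrArg (Int.cast : ℤ → F) c6
    rw [b1, a1]
    refine (congrFun (T.act_X (eichSelf Q) c7 (C r * u) (bv F (e q))) (e p)).trans ?_
    simp only [Frame.zz, Frame.dd, e.injective.eq_iff, Fin.ext_iff, if_neg c5, Q.B_lin, T.B_bv, T.σ_q hW, he, eq_comm (a := e q), MRep.rM, colE, of_apply,
      Pi.add_apply, Pi.sub_apply, Pi.smul_apply, Pi.single_apply, eq_comm (a := (q : ℕ)), quadKind_ε]
    have c9 : (C r : F) * u * (C r * u) = u ^ 2 := by linear_combination u ^ 2 * c8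
    rw [c9]
    simp only [eq_comm (a := (p : ℕ)), List.map_append, List.sum_append, apply_ite (List.map _), apply_ite List.sum, List.map_cons, List.map_nil,
      List.sum_cons, List.sum_nil, RingHom.id_apply, smul_eq_mul]
    push_cast
    split_ifs <;> ring1
  have b4 : Q.E.map π = S.U Set.univ := by
    refine le_antisymm ?_ ((S.U_le_iff).2 fun r _ u => ?_)
    · rw [← T.map_U (eichSelf Q) β, map_le_iff_le_comap, map_le_iff_le_comap, PreSys.U_le_iff]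
      intro r _ u
      obtain ⟨a, b, c1, rfl⟩ := WtData.exists_rt r
      obtain ⟨θ, -, c2, -⟩ := T.exists_x (eichSelf Q) β c1
      obtain ⟨a, rfl⟩ := e.surjective a
      obtain ⟨b, rfl⟩ := e.surjective b
      obtain ⟨s, c3, c4⟩ := (((h2 a a.2 b b.2).resolve_left (mt (he _ _).2 c1.1)).resolve_left fun h => c1.2.1 ((he _ _).2 h.symm).symm).resolve_left
        fun h => hW (c1.2.2 (congrArg e (Fin.ext h)))
      obtain ⟨a', b', d1, d2, d3, d4⟩ := b3 ⟨s, c3⟩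
      have d5 : ∀ u, π (Frame.X W (eichSelf Q) (e a') (e b') u) ∈ S.U Set.univ := fun u => by
        have := d4 (C s * u)
        rw [← mul_assoc, ← Int.cast_mul, (h1 s c3).2.2.2.2.2, Int.cast_one, one_mul] at this
        exact this ▸ S.x_mem_U (Set.mem_univ _) _
      rw [c2]
      change π (Frame.X W (eichSelf Q) _ _ _) ∈ S.U Set.univ
      rcases c4 with ⟨c4, c5⟩ | ⟨c4, c5⟩ <;> obtain rfl := Fin.ext (d1.trans c4) <;> obtain rfl := Fin.ext (d2.trans c5)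
      · exact d5 _
      · obtain ⟨c, -, c6, -⟩ := T.exists_X_swap (eichSelf Q) d3 c1
        exact c6 _ ▸ d5 _
    · obtain ⟨a, b, -, -, c1, c2⟩ := b3 r
      exact ⟨_, T.map_U (eichSelf Q) β ▸ ⟨_, T.X_mem _ β c1 _, rfl⟩, c2 u⟩
  have b5 : ∀ r u, S.x r u ∈ Q.E.map π := fun r u => b4 ▸ S.x_mem_U (Set.mem_univ _) _
  have b6 := S.restrict_univ b4 b5
  obtain ⟨θ, c1, c2, -⟩ := h.compat.exists_quot hm hD (a2.restrict _ b5) (a4.restrict _ _ b5) (a5.restrict _ b5) (a6.restrict a5 _ b5) b6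
  have c3 : commutator Q.isom = Q.E := h4.antisymm fun g hg => map_mem_commutator Q.E.subtype (g := ⟨g, hg⟩)
    ((mem_commutator_equiv (Q.E.equivMapOfInjective π b2)).1 (h.compat.perfect hD h3 (a3.restrict _ _ b5) (a2.restrict _ b5) b6 ▸ mem_top _))
  exact ⟨(QuotientGroup.quotientKerEquivOfSurjective θ c1).symm.trans ((QuotientGroup.quotientMulEquivOfEq c2).trans
    (quotientCenterCongr ((MulEquiv.subgroupCongr c3).trans (Q.E.equivMapOfInjective π b2))).symm)⟩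

theorem chkRep_D8 : chkRep chevD4 tabD4 0 8 (colE ([4, 5, 6, 7, 0, 1, 2, 3].getD · 0)
    ([4, 4, 3, 4, 2, 1, 5, 3, 5, 2, 3, 6, 2, 2, 1, 1, 1, 1, 0, 0, 0, 0, 0, 0].getD · 0)
    ([5, 6, 4, 7, 4, 4, 6, 5, 7, 5, 6, 7, 3, 7, 6, 3, 7, 2, 5, 6, 3, 7, 2, 1].getD · 0)
    ([-1, -1, 1, -1, -1, 1, 1, -1, 1, 1, 1, -1, 1, 1, 1, -1, -1, -1, 1, -1, 1, 1, 1, 1].getD · 0))
    (tab [[0, 0, 0, 0], [-1, 0, 0, 0], [-1, -1, 0, 0], [-1, -1, -1, 0], [-2, -2, -1, -1], [-1, -2, -1, -1], [-1, -1, -1, -1], [-1, -1, 0, -1]])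
    (tab2 [[[1, 0], [0, 1], [0, 0], [0, 0], [0, 1], [1, 0], [0, 0], [0, 0]], [[0, 0], [1, 0], [0, 1], [0, 0], [0, 0], [0, 1], [1, 0], [0, 0]],
      [[0, 0], [0, 0], [1, 0], [0, 1], [0, 0], [0, 0], [0, 1], [1, 0]], [[0, 0], [0, 0], [1, 0], [1, 0], [0, 0], [0, 0], [0, 1], [0, 1]]]) = true := by
  decide +kernel

theorem chkRep_B5 : chkRep chevB2 tabB2 0 5 (colE ([0, 3, 4, 1, 2].getD · 0) ([3, 3, 4, 2, 1, 2, 1, 1].getD · 0) ([4, 0, 0, 3, 4, 0, 0, 2].getD · 0)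
    ([-1, -1, -1, 1, 1, 1, 1, 1].getD · 0)) (tab [[0, 0], [1, 1], [1, 0], [-1, -1], [-1, 0]])
    (tab2 [[[0, 0], [0, 0], [2, 0], [0, 0], [0, 2]], [[0, 0], [1, 0], [0, 1], [0, 1], [1, 0]]]) = true := by
  decide +kernel

theorem Frame.isHyp {ι J : Type*} [DecidableEq ι] [Fintype J] {W : WtData ι J} (hW : ¬ W.lg) {F : Type*} [Field F] {Q : Form (quadKind F) (ι → F)}
    (T : Frame W Q) {a : ι} (h : W.inv a ≠ a) : Q.IsHyp (bv F a) (bv F (W.inv a)) :=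
  ⟨T.Q_bv h, T.Q_bv (W.inv_inj.ne h), by rw [T.B_bv, if_pos rfl, if_neg h, T.σ_q hW]⟩

theorem Frame.mem_hp {ι J : Type*} [DecidableEq ι] [Fintype J] {W : WtData ι J} (hW : ¬ W.lg) {F : Type*} [Field F] {Q : Form (quadKind F) (ι → F)}
    (T : Frame W Q) {a : ι} (h : W.inv a ≠ a) {x : ι → F} : x ∈ Q.hp (bv F a) (bv F (W.inv a)) ↔ x (W.inv a) = 0 ∧ x a = 0 := by
  simp [Q.mem_hp, T.B_e, T.σ_q hW, h, h.symm, W.inv_inv]

theorem equiv_D4 (F : Type u) [Field F] : Nonempty (chevD4.group F ≃* POmega F (quadFormPlus 4 F)) := by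
  have T := frameD F 4
  have a1 : (wtE 4 False).inv (.inl 0) ≠ .inl 0 := by decide
  have a2 : (wtE 4 False).inv (.inl 1) ≠ .inl 1 := by decide
  exact (exists_orth rootOK_D4 matOK_D4 (by simp) chkRep_D8 (by decide +kernel) (by decide +kernel) (W := wtE 4 False) id (finSumFinEquiv (m := 4) (n := 4)).symm (by decide +kernel)
    ((stdE 3 False).baseD id (by decide)) T (fun h => h.elim (fun h => absurd (congrArg (·.rank) h) (by decide)) fun h => absurd (congrArg (·.rank) h) (by decide))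
    (commutator_le_E (Frame.isHyp id T a1) (Frame.isHyp id T a2)
      ((Frame.mem_hp id T a1).2 (by simp [wtE])) ((Frame.mem_hp id T a1).2 (by simp [wtE])) fun G h1 h2 => (fPlus_nondeg 4).eq_top_of_rk1_eich G
        (fun p c h => (Form.rk1_eq_one_or h).elim (fun e => e ▸ one_mem _) fun e => e.2 ▸ h1 p) fun _ _ _ _ => h2 (Form.eich_mem_E _ _ _ _))).map
    fun φ => φ.trans (pOmegaIso _ fPlus_Q).symm

theorem equiv_B2 (F : Type u) [Field F] (hF : ∃ a : F, a ≠ 0 ∧ a ≠ 1) : Nonempty (chevB2.group F ≃* POmega F (quadFormOdd 2 F)) := by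
  have T := frameB F 2
  have a1 : (wtO 2).inv (.inr (.inl 0)) ≠ .inr (.inl 0) := by decide
  have a2 : (wtO 2).inv (.inr (.inl 1)) ≠ .inr (.inl 1) := by decide
  have b1 := (Frame.mem_hp id T a1 (x := bv F (.inr (.inl 1)))).2 (by simp [wtO])
  have b2 := (Frame.mem_hp id T a1 (x := bv F ((wtO 2).inv (.inr (.inl 1))))).2 (by simp [wtO])
  exact (exists_orth rootOK_B2 matOK_B2 (by simp) chkRep_B5 (by decide +kernel) (by decide +kernel) (W := wtO 2) id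
    ((finSumFinEquiv (m := 1) (n := 4)).symm.trans (Equiv.sumCongr finOneEquiv (finSumFinEquiv (m := 2) (n := 2)).symm)) (by decide +kernel)
    ((stdO 1).baseB (o := .inl ()) rfl) T (fun _ => hF) (commutator_le_E (Frame.isHyp id T a1) (Frame.isHyp id T a2) b1 b2
      (eq_top_of_five (Frame.isHyp id T a1) (Frame.isHyp id T a2) b1 b2 (o := bv F (.inl ())) ((T.Q_e _).trans (if_pos rfl))
        ((Frame.mem_hp id T a1).2 (by simp [wtO])) ((Frame.mem_hp id T a2).2 (by simp [wtO])) fun x h1 h2 => ⟨x (.inl ()), by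
          rw [Frame.mem_hp id T a1] at h1
          rw [Frame.mem_hp id T a2] at h2
          ext (_ | i | i)
          · simp
          all_goals fin_cases i <;> simp_all [wtO]⟩))).map fun φ => φ.trans (pOmegaIso _ fOdd_Q).symm

end Cfsg.Lib.Chev
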