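/-
Squares of conjugacy classes in Chevalley groups over fields with at least nine elements.
-/
import Cfsg.Agent.Lib.Chev.Gauss
import Cfsg.Agent.Lib.Chev.Chain
import Cfsg.Agent.Lib.Chev.Conn

set_option autoImplicit false

namespace Cfsg.Lib.Chev

open Matrix Cfsg.Lib.Linear PreSys Subgroup Lev Function

local notation "SL" => Matrix.SpecialLinearGroup

/-- The group is the square of a conjugacy class. -/
def SqCl (G : Type*) [Group G] : Prop := ∃ c : G, ∀ g : G, ∃ x y : G, g = (x * c * x⁻¹) * (y * c * y⁻¹)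

/-- The square of some real class contains all non-central elements. -/
def SqCl' (G : Type*) [Group G] : Prop :=
  ∃ c : G, (∀ g ∉ center G, ∃ a b, IsConj c a ∧ IsConj c b ∧ g = a * b) ∧ IsConj c c⁻¹

theorem SqCl'.map {G G' : Type*} [Group G] [Group G'] (h : SqCl' G) {π : G →* G'} (h1 : Surjective π)
    (h2 : center G ≤ π.ker) : SqCl G' := by
  obtain ⟨c, h, h'⟩ := h
  refine ⟨π c, fun g => ?_⟩
  obtain ⟨g, rfl⟩ := h1 g
  by_cases hg : g ∈ center G
  · obtain ⟨y, hy⟩ := isConj_iff.1 h'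
    exact ⟨1, π y, by rw [← map_inv, ← map_mul, ← map_mul, hy, show π g = 1 from h2 hg]; simp⟩
  · obtain ⟨a, b, ha, hb, rfl⟩ := h g hg
    obtain ⟨x, rfl⟩ := isConj_iff.1 ha
    obtain ⟨y, rfl⟩ := isConj_iff.1 hb
    exact ⟨π x, π y, by simp⟩

theorem SqCl'.quot {G G' : Type*} [Group G] [Group G'] (h : SqCl' G) (e : G' ≃* G ⧸ center G) : SqCl G' :=
  h.map (π := e.symm.toMonoidHom.comp (QuotientGroup.mk' _)) (e.symm.surjective.comp (QuotientGroup.mk'_surjective _))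
    fun g hg => by simpa using hg

theorem isConj_mul {G : Type*} [Group G] {V : Subgroup G} [Finite V] {x : G} (hx : x ∈ normalizer (V : Set G))
    (h : ∀ v ∈ V, Commute v x → v = 1) {v : G} (hv : v ∈ V) : IsConj x (v * x) := by
  let f : V → V := fun u => ⟨u * (x * u.1⁻¹ * x⁻¹), mul_mem u.2 ((hx _).1 (inv_mem u.2))⟩
  have inj : Injective f := fun a b e => by
    have e' : (a : G) * (x * a.1⁻¹ * x⁻¹) = b * (x * b.1⁻¹ * x⁻¹) := congrArg Subtype.val e
    refine Subtype.ext (inv_mul_eq_one.1 (h _ (mul_mem (inv_mem b.2) a.2) ?_)).symm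
    calc (b : G)⁻¹ * a * x = b.1⁻¹ * (a * (x * a.1⁻¹ * x⁻¹)) * x * a := by group
      _ = _ := by rw [e']; group
  obtain ⟨u, hu⟩ := Finite.injective_iff_surjective.1 inj ⟨v, hv⟩
  exact isConj_iff.2 ⟨u, by rw [← show (u : G) * (x * u.1⁻¹ * x⁻¹) = v from congrArg Subtype.val hu]; group⟩

variable {I Φ : Type*} [Fintype I] [DecidableEq I] [Finite Φ] {R : RootSys I Φ} {F : Type*} [Field F] [Fintype F]
  {G : Type*} [Group G] {S : PreSys R F G}

/-- Evaluation of a cocharacter on the root lattice. -/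
def RootSys.evL (R : RootSys I Φ) (y : I → ℤ) : (I → ℤ) →+ ℤ :=
  AddMonoidHom.mk' (fun v => ∑ i, R.wt v i * y i) fun v w => by simp [R.wt_add, add_mul, Finset.sum_add_distrib]

omit [Finite Φ] in
theorem RootSys.evL_rt (y : I → ℤ) (r : Φ) : R.evL y (R.rt r) = R.ev r y := by
  simp [RootSys.evL, RootSys.ev, RootSys.wr, R.pair_simple]

theorem PreSys.St.conj_mul (hS : S.St) (hF : S.Sep) {h z : G} (hh : h ∈ S.H) {f : (I → ℤ) →+ ℤ}
    (hz : z ∈ S.U {r | f (R.rt r) = 0}) (hc : Commute h z) {N : ℕ} (h1 : z ^ N = 1) (h2 : h ^ N = h)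
    (h3 : ∀ r ∈ S.Rt {h}, f (R.rt r) = 0) {v : G} (hv : v ∈ S.U {r | 0 < f (R.rt r)}) : IsConj (h * z) (v * (h * z)) := by
  have hT : R.Nil {r | 0 < f (R.rt r)} f := ⟨fun r hr s hs k hk => by
    have := RootSys.le_of_mem_cone hk (le_of_lt hr) (le_of_lt hs)
    simp only [Set.mem_ofPred_eq] at *; omega, fun _ h => h⟩
  have : Finite (S.U {r | 0 < f (R.rt r)}) := Nat.finite_of_card_ne_zero (by
    rw [S.card_U hF hT]; exact pow_ne_zero _ Nat.card_pos.ne')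
  refine isConj_mul (mul_mem (hS.H_le_normalizer _ hh) (S.U_le_normalizer (fun s hs r hr => ⟨?_, fun k hk => ?_⟩) hz))
    (fun u hu e => ?_) hv
  · rintro rfl
    simp [R.rt_neg, show f (R.rt s) = 0 from hs] at hr
  · obtain ⟨a, b, -, h, e⟩ := RootSys.map_cone hk f
    simp only [Set.mem_ofPred_eq] at *
    rw [e, hs]; nlinarith
  · have e' := e.pow_right N
    rw [hc.mul_pow, h1, h2, mul_one] at e'
    have := hS.mem_U_Rt hF (A := {h}) (by simpa) hT hu (by simpa [mem_centralizer_iff] using e'.symm.eq)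
    rwa [show {r | 0 < f (R.rt r)} ∩ S.Rt {h} = ∅ from Set.eq_empty_of_forall_notMem fun r hr =>
      (h3 r hr.2).not_gt hr.1, S.U_empty] at this

omit [Fintype F] in
theorem slConj_diag_simple {k : ℕ} (d : Fin (k + 1) → Fˣ) (b : Fin k) (t : F) :
    slConj _ F (glDiag _ F d) ((sysA k F).x ((euA k).R.simple b) t) =
      (sysA k F).x ((euA k).R.simple b) ((d b.castSucc * (d b.succ)⁻¹ : Fˣ) * t) ∧
    slConj _ F (glDiag _ F d) ((sysA k F).x ((euA k).R.neg ((euA k).R.simple b)) t) =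
      (sysA k F).x ((euA k).R.neg ((euA k).R.simple b)) (((d b.castSucc * (d b.succ)⁻¹)⁻¹ : Fˣ) * t) := by
  simp only [sysA_x, slConj_diagonal_transvection]
  constructor <;> congr 1 <;> simp [euA_simple, euA_neg] <;> ring

/-- Data for the theorem on squares of classes. -/
structure RootSys.Thom (R : RootSys I Φ) {k : ℕ} (j : Fin k → I) (l μ : I → ℤ) (w : Equiv.Perm Φ) : Prop where
  cartan : ∀ a b, R.A (j a) (j b) = (euA k).R.A a b
  nonneg : ∀ i, 0 ≤ R.ev (R.simple i) l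
  zero : ∀ i, R.ev (R.simple i) l = 0 ↔ ∃ a, j a = i
  le : ∀ r, R.ev r l ≤ 7
  mu : ∀ a, R.ev (R.simple (j a)) μ = if a.val = 0 then 1 else 0
  mem : w ∈ R.W
  neg : ∀ i, R.ev (w (R.simple i)) l = -R.ev (R.simple i) l
  act : (∀ a, w (R.simple (j a)) = R.neg (R.simple (j a))) ∨ ∀ a, w (R.simple (j a)) = R.simple (j a)

theorem PreSys.St.thom (hS : S.St) (hF : S.Sep) (hO : S.Opp) (hgen : S.U Set.univ = ⊤) (hR : R.Conn)
    (hq : 9 ≤ Fintype.card F) {k : ℕ} {j : Fin k → I} {l μ : I → ℤ} {w : Equiv.Perm Φ} (T : R.Thom j l μ w) : SqCl' G := by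
  have hM := hS.mult_of_finite
  obtain ⟨ρ, hρ⟩ := hS.exists_chain hF T.cartan
  obtain ⟨ζ, hζ⟩ := IsCyclic.exists_ofOrder_eq_natCard (α := Fˣ)
  rw [Nat.card_units, Nat.card_eq_fintype_card] at hζ
  have z0 : ∀ m : ℤ, |m| ≤ 7 → ζ ^ m = 1 → m = 0 := fun m h e =>
    Int.eq_zero_of_abs_lt_dvd (orderOf_dvd_iff_zpow_eq_one.2 e) (by omega)
  obtain ⟨h, hh⟩ : ∃ h, h = hS.tor hM fun i => ζ ^ l i := ⟨_, rfl⟩
  have hH : h ∈ S.H := hh ▸ hS.tor_mem hM _
  have hrt : ∀ r, r ∈ S.Rt {h} ↔ R.ev r l = 0 := fun r => by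
    rw [hh, hS.mem_Rt_tor hM hF, evw_zpow]
    exact ⟨z0 _ (abs_le.2 ⟨by have := T.le (R.neg r); rw [R.ev_neg] at this; exact neg_le.1 this, T.le r⟩),
      fun e => by rw [show ∑ i, R.wr r i * l i = 0 from e, zpow_zero]⟩
  have hs : ∀ r, R.ev r l = ∑ i, R.rt r i * R.ev (R.simple i) l := fun r => RootSys.ev_W_sum (one_mem _) r l
  have hp : ∀ r, R.Pos r → 0 ≤ R.ev r l := fun r hr => hs r ▸ Finset.sum_nonneg fun i _ => mul_nonneg (hr i) (T.nonneg i)
  obtain ⟨J, mJ⟩ : ∃ J : Finset I, ∀ i, i ∈ (J : Set I) ↔ ∃ a, j a = i := ⟨Finset.univ.image j, by simp⟩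
  have hsub : ∀ r, R.ev r l = 0 ↔ R.InSub J r := fun r => by
    wlog hr : R.Pos r generalizing r
    · rw [← RootSys.inSub_neg, ← this _ ((R.pos_neg_iff r).2 hr), R.ev_neg, neg_eq_zero]
    rw [hs, Finset.sum_eq_zero_iff_of_nonneg fun i _ => mul_nonneg (hr i) (T.nonneg i)]
    simp only [Finset.mem_univ, forall_const, mul_eq_zero, T.zero, RootSys.InSub, mJ]
    exact forall_congr' fun i => by tauto
  have hL : ∀ {T : Set Φ}, (∀ r ∈ T, R.ev r l = 0) → S.U T ≤ ρ.range := fun hT => S.U_le_iff.2 fun r hr =>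
    hS.x_mem_of_simple (J := J) (fun i hi => by
      obtain ⟨a, rfl⟩ := (mJ i).1 hi
      exact mul_mem (mul_mem ⟨_, (hρ a _).1⟩ ⟨_, (hρ a _).2⟩) ⟨_, (hρ a _).1⟩)
      (fun i hi t => by obtain ⟨a, rfl⟩ := (mJ i).1 hi; exact ⟨_, (hρ a t).1⟩) ((hsub r).1 (hT r hr))
  have hL' : ∀ A, ρ A ∈ S.U {r | R.ev r l = 0} := fun A => by
    have a1 : ∀ a, R.ev (R.simple (j a)) l = 0 := fun a => (T.zero _).2 ⟨a, rfl⟩
    have a2 : ∀ a t, ρ ((sysA k F).x ((euA k).R.simple a) t) ∈ S.U {r | R.ev r l = 0} := fun a t =>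
      (hρ a t).1 ▸ S.x_mem_U (a1 a) t
    refine sysA_st.univ_le_of_simple (X := (S.U {r | R.ev r l = 0}).comap ρ) (fun a => mul_mem (mul_mem (a2 a _) ?_) (a2 a _))
      a2 (by rw [sysA_gen]; trivial)
    rw [mem_comap, (hρ a _).2]
    exact S.x_mem_U (by simp [R.ev_neg, a1]) _
  have hc : ∀ A, Commute h (ρ A) := fun A => U_Rt_le (fun r hr => (hrt r).2 hr) (hL' A) h rfl
  have key : ∀ (a : G) (φ : MulAut (SL (Fin (k + 1)) F)), (∀ b t,
      a * S.x (R.simple (j b)) t * a⁻¹ = ρ (φ ((sysA k F).x ((euA k).R.simple b) t)) ∧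
      a * S.x (R.neg (R.simple (j b))) t * a⁻¹ = ρ (φ ((sysA k F).x ((euA k).R.neg ((euA k).R.simple b)) t))) →
      ∀ A, a * ρ A * a⁻¹ = ρ (φ A) := fun a φ H =>
    DFunLike.congr_fun (sysA_st.hom_ext sysA_gen (φ := (MulAut.conj a).toMonoidHom.comp ρ) (ψ := ρ.comp φ.toMonoidHom)
      (fun b t => by simpa [-Eu.R_simple, hρ] using (H b t).1) fun b t => by simpa [-Eu.R_neg, -Eu.R_simple, hρ] using (H b t).2)
  have cj : ∀ (n : ℤ) x A, IsConj (h ^ n * ρ A) (h ^ n * ρ (slConj _ F x A)) := fun n x A => by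
    obtain ⟨s, d, rfl⟩ := exists_sl_mul_diag x
    refine isConj_iff.2 ⟨ρ s * hS.tor hM fun i => d ^ μ i, ?_⟩
    have c1 : Commute (hS.tor hM fun i => d ^ μ i) h := hS.H_comm hM (hS.tor_mem hM _) hH
    rw [← mul_assoc, (((hc s).symm.mul_left c1).zpow_right n).eq, map_mul, MulAut.mul_apply, slConj_toGL, map_mul, map_mul,
      map_inv, ← key (hS.tor hM fun i => d ^ μ i) _ fun b t => ?_]
    · group
    have e : Pi.mulSingle (M := fun _ => Fˣ) 0 d b.castSucc * (Pi.mulSingle (M := fun _ => Fˣ) 0 d b.succ)⁻¹ =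
        d ^ R.ev (R.simple (j b)) μ := by
      simp [T.mu, Pi.mulSingle_apply, Fin.ext_iff]
    rw [(slConj_diag_simple _ b t).1, (slConj_diag_simple _ b t).2, (hρ _ _).1, (hρ _ _).2, hS.tor_conj, hS.tor_conj,
      evw_zpow, evw_zpow, e, ← _root_.zpow_neg, ← R.ev_neg]
    exact ⟨rfl, rfl⟩
  have hN : ∀ x, ρ (slConj _ F x (jSL _ F)) ^ Fintype.card F ^ ((k + 1) * (k + 1 - 1) / 2) = 1 := fun x => by
    have : jSL (k + 1) F ∈ slUnitri _ F := mem_slUnitri.2 ⟨fun a b h => by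
      simp [coe_jSL, shM, one_apply_ne h.ne']; omega, fun a => by simp [coe_jSL, shM]⟩
    have e := congrArg Subtype.val (pow_card_eq_one' (x := (⟨_, this⟩ : slUnitri _ F)))
    rw [card_slUnitri, Nat.card_eq_fintype_card] at e
    rw [← map_pow, ← map_pow, show jSL (k + 1) F ^ _ = 1 from e, map_one, map_one]
  have hN' : h ^ Fintype.card F ^ ((k + 1) * (k + 1 - 1) / 2) = h := by
    rw [hh, ← map_pow]; congr 1; funext i; exact Units.ext (by simp [-Units.val_zpow_eq_zpow_val, FiniteField.pow_card_pow])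
  refine ⟨h * ρ (jSL _ F), fun g hg => ?_, ?_⟩
  · obtain ⟨t, t1, t2, t3⟩ : ∃ t ∈ S.H, t ∈ ρ.range ∧ (k = 0 ∨ ∃ r, R.InSub J r ∧ ¬ Commute t (S.x r 1)) := by
      rcases Nat.eq_zero_or_pos k with e | e
      · exact ⟨1, one_mem _, one_mem _, .inl e⟩
      have a1 : R.ev (R.simple (j ⟨0, e⟩)) l = 0 := (T.zero _).2 ⟨_, rfl⟩
      refine ⟨_, S.h_mem_H (R.simple (j ⟨0, e⟩)) ζ.ne_zero, hL (T := {r | R.ev r l = 0}) (fun _ h => h)
        (S.h_mem_U a1 (by simp [R.ev_neg, a1]) _), .inr ⟨_, (hsub _).1 a1, fun c => ?_⟩⟩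
      have := hS.h_conj (R.simple (j ⟨0, e⟩)) ζ.ne_zero (R.simple (j ⟨0, e⟩)) 1
      rw [c.eq, mul_inv_cancel_right, R.pair_self, mul_one] at this
      exact absurd (z0 2 (by decide) (Units.ext (by simpa using (hF.x_inj this).symm))) (by decide)
    obtain ⟨a, y, hy, u, hu, e⟩ := hS.gauss hF hM hO hgen hR hg (mul_mem (mul_mem hH t1) hH)
    obtain ⟨y1, hy1, y2, hy2, rfl⟩ := S.exists_mul' RootSys.nil_neg {r | R.ev r l = 0} hy
    obtain ⟨u2, hu2, u1, hu1, rfl⟩ := S.exists_mul RootSys.nil_pos {r | R.ev r l = 0} hu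
    obtain ⟨Y, rfl⟩ := hL (fun _ h => h.2) hy2
    obtain ⟨U, rfl⟩ := hL (fun _ h => h.2) hu2
    obtain ⟨t, rfl⟩ := t2
    have nc : k = 0 ∨ Y * t * U ∉ center _ := t3.imp_right fun ⟨r, r1, r2⟩ hz => by
        have z1 : ∀ r, R.InSub J r → ∀ s, ρ (Y * t * U) * S.x r s = S.x r s * ρ (Y * t * U) := fun r hr s => by
          obtain ⟨B, hB⟩ := hL (T := {r | R.ev r l = 0}) (fun _ h => h) (S.x_mem_U ((hsub r).2 hr) s)
          rw [← hB, ← map_mul, ← map_mul, mem_center_iff.1 hz]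
        have z2 : ρ (Y * t * U) ∈ S.H := S.sub_H_le J ((hS.sub J).mem_H_of_central (hF.sub J) (hO.sub J)
          (by rw [S.sub_univ]; exact S.U_mono (fun r => (hsub r).1) (hL' _)) fun s => z1 s.1 s.2)
        have y3 := S.U_mono Set.inter_subset_left hy2
        have u3 := S.U_mono Set.inter_subset_left hu2
        have z3 : ρ U ∈ S.H := hS.B_inf_neg_sup_H hO ▸ ⟨S.U_le_B u3, by
          rw [show ρ U = (ρ t)⁻¹ * (ρ Y)⁻¹ * ρ (Y * t * U) by simp [mul_assoc]]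
          exact mul_mem (mul_mem (mem_sup_right (inv_mem t1)) (mem_sup_left (inv_mem y3))) (mem_sup_right z2)⟩
        have z4 : ρ U = 1 := mem_bot.1 (hS.U_inf_H hO ▸ ⟨u3, z3⟩)
        have z5 : ρ Y = 1 := mem_bot.1 (hS.neg_inf_H hO ▸ ⟨y3, by
          rw [show ρ Y = ρ (Y * t * U) * (ρ t)⁻¹ by simp [z4]]; exact S.H.mul_mem z2 (inv_mem t1)⟩)
        exact r2 (by simpa [z4, z5, Commute, SemiconjBy] using z1 r r1 1)
    obtain ⟨x1, x2, hx⟩ := two_jSL (big_of_card (by rw [Cardinal.mk_fintype]; exact_mod_cast (by omega : 4 ≤ Fintype.card F))) nc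
    have b1 := hS.conj_mul hF hH (f := -R.evL l) (by simpa [R.evL_rt] using hL' _) (hc _) (hN x1) hN'
      (by simpa [R.evL_rt] using fun r => (hrt r).1) (S.U_mono (fun r hr => by
        have := hp _ ((R.pos_neg_iff r).2 hr.1)
        have := hr.2
        simp only [R.ev_neg, Set.mem_ofPred_eq, AddMonoidHom.neg_apply, R.evL_rt] at *; omega) hy1)
    have b2 := hS.conj_mul hF hH (f := R.evL l) (by simpa [R.evL_rt] using hL' _) (hc _) (hN x2) hN'
      (by simpa [R.evL_rt] using fun r => (hrt r).1) (S.U_mono (fun r hr => by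
        have := hp _ hr.1
        have := hr.2
        simp only [Set.mem_ofPred_eq, R.evL_rt] at *; omega) hu1)
    have c1 := cj 1 x1 (jSL _ F)
    have c2 := cj 1 x2 (jSL _ F)
    rw [zpow_one] at c1 c2
    refine ⟨a⁻¹ * _ * a⁻¹⁻¹, (a⁻¹ * u1⁻¹) * _ * (a⁻¹ * u1⁻¹)⁻¹, (c1.trans b1).trans (isConj_iff.2 ⟨_, rfl⟩),
      (c2.trans b2).trans (isConj_iff.2 ⟨_, rfl⟩), ?_⟩
    calc g = a⁻¹ * (a * g * a⁻¹) * a := by group
      _ = a⁻¹ * (y1 * (ρ Y * h) * (ρ t * h) * ρ U * u1) * a := by rw [e]; group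
      _ = a⁻¹ * (y1 * h * (ρ Y * h) * ρ t * ρ U * u1) * a := by rw [← (hc t).eq]; nth_rewrite 1 [← (hc Y).eq]; group
      _ = a⁻¹ * (y1 * h * (h * ρ (Y * t * U)) * u1) * a := by rw [← (hc Y).eq, map_mul, map_mul]; group
      _ = _ := by rw [hx, map_mul, ← mul_assoc h]; nth_rewrite 1 [(hc _).eq]; group
  · obtain ⟨m, -, hm⟩ := hS.exists_rep T.mem
    have m0 : R.aw w l = -l := eq_neg_of_add_eq_zero_left (RootSys.eq_zero_of_ev (R := R) fun i => by
      obtain ⟨r, e⟩ := w.surjective (R.simple i)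
      rw [← e, R.ev_add, RootSys.ev_aw T.mem, RootSys.ev_W_sum T.mem, hs r]
      simp [T.neg])
    have m1 : m * h * m⁻¹ = h ^ (-1 : ℤ) := by
      rw [hh, hS.conj_tor hM T.mem hm, R.cw_zpow, _root_.zpow_neg_one, ← map_inv, m0]
      congr 1; funext i; simp
    obtain ⟨χ, χ0, χ1, χ2⟩ := hm
    have dg : ∀ c : Fin k → Fˣ, ∃ d : Fin (k + 1) → Fˣ, ∀ b : Fin k, d b.castSucc * (d b.succ)⁻¹ = c b := fun c =>
      ⟨Fin.partialProd fun b => (c b)⁻¹, fun b => by simp [Fin.partialProd_succ]⟩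
    obtain ⟨B, x, y, h1, h2⟩ : ∃ B x y, m * ρ (jSL _ F) * m⁻¹ = ρ (slConj _ F x B) ∧ slConj _ F y B = (jSL _ F)⁻¹ := by
      rcases T.act with H | H
      · obtain ⟨d, hd⟩ := dg fun b => (Units.mk0 _ (neg_ne_zero.2 (χ0 (R.simple (j b)))))⁻¹
        obtain ⟨y, hy⟩ := jSL_invT (F := F) (n := k)
        refine ⟨_, glDiag _ F d, y, key m (slConj _ F (glDiag _ F d) * slInvT _ F) (fun b t => ?_) _, hy⟩
        have a1 : slInvT _ F ((sysA k F).x ((euA k).R.simple b) t) = (sysA k F).x ((euA k).R.neg ((euA k).R.simple b)) (-t) := by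
          rw [sysA_x, sysA_x]; exact slInvT_transvection _ _
        have a2 : slInvT _ F ((sysA k F).x ((euA k).R.neg ((euA k).R.simple b)) t) = (sysA k F).x ((euA k).R.simple b) (-t) := by
          rw [sysA_x, sysA_x]; exact slInvT_transvection _ _
        rw [MulAut.mul_apply, MulAut.mul_apply, a1, a2, (slConj_diag_simple _ b _).1, (slConj_diag_simple _ b _).2, (hρ _ _).1,
          (hρ _ _).2, hd, χ2, χ2, RootSys.W_neg T.mem, H, R.neg_neg, χ1]
        simp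
      · obtain ⟨d, hd⟩ := dg fun b => Units.mk0 _ (χ0 (R.simple (j b)))
        obtain ⟨y, hy⟩ := jSL_inv (F := F) (n := k)
        refine ⟨_, glDiag _ F d, y, key m (slConj _ F (glDiag _ F d)) (fun b t => ?_) _, hy⟩
        rw [(slConj_diag_simple _ b _).1, (slConj_diag_simple _ b _).2, (hρ _ _).1,
          (hρ _ _).2, hd, χ2, χ2, RootSys.W_neg T.mem, H, χ1]
        simp
    refine (isConj_iff.2 ⟨m, ?_⟩).trans ((cj (-1) x B).symm.trans ((cj (-1) y B).trans (IsConj.refl _ |>.trans ?_)))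
    · rw [← m1, ← h1]; group
    · rw [h2, (hc _).eq, _root_.mul_inv_rev, map_inv, _root_.zpow_neg_one]

end Cfsg.Lib.Chev
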