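/-
Weakly closed unipotent subgroups, the commutator subgroup of `U`, conjugacy of roots of equal length.
-/
import Cfsg.Agent.Lib.Chev.BT
import Cfsg.Agent.Lib.Chev.Collect
import Cfsg.Agent.Lib.PGrp.OmegaBasic
import Cfsg.Agent.Lib.Core.Basic

set_option autoImplicit false

namespace Cfsg.Lib.Chev

open scoped commutatorElement
open Cfsg.Lie Cfsg.Lib.Twist

section abstract

variable {I Φ : Type*} [Fintype I] [DecidableEq I] {R : RootSys I Φ}

theorem RootSys.Conn.exists_W (hR : R.Conn) {r s : Φ} (e : R.len r = R.len s) : ∃ w ∈ R.W, w r = s := by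
  obtain ⟨w₀, hw₀, j, rfl⟩ := R.exists_W_simple s
  obtain ⟨w, hw, h⟩ : ∃ w ∈ R.W, R.pair (R.simple j) (w r) ≠ 0 := by
    by_contra! h0
    obtain ⟨i, hi, k, hk, e⟩ := hR {j | ∀ w ∈ R.W, R.pair (R.simple j) (w r) = 0} ⟨j, h0⟩ (by
      obtain ⟨v, hv, k, rfl⟩ := R.exists_W_simple r
      exact ⟨k, fun h => by simpa [R.pair_self] using h _ (inv_mem hv)⟩)
    refine hk fun w hw => ?_
    have := hi _ (mul_mem (R.s_mem_W k) hw)
    rw [Equiv.Perm.mul_apply, R.s_apply, R.pair_refl_right, hi w hw, R.pair_simple_simple] at this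
    simpa [e] using this
  rw [R.W_len hw₀, ← R.W_len hw] at e
  suffices ∃ v ∈ R.W, v (w r) = R.simple j by
    obtain ⟨v, hv, h⟩ := this
    exact ⟨w₀ * v * w, mul_mem (mul_mem hw₀ hv) hw, by simp [h]⟩
  generalize w r = a at h e
  generalize R.simple j = b at h e
  wlog h1 : 0 < R.pair b a generalizing a
  · obtain ⟨v, hv, h⟩ := this (R.neg a) (by rwa [R.pair_neg_right, neg_ne_zero]) (by rwa [R.len_neg]) (by
      rw [R.pair_neg_right]; omega)
    exact ⟨v * R.reflPerm a, mul_mem hv (R.reflPerm_mem_W a), by simpa [R.refl_self] using h⟩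
  by_cases h2 : a = b
  · exact ⟨1, one_mem _, h2⟩
  have h3 : R.pair a b = R.pair b a := mul_left_cancel₀ (R.len_pos' a).ne' (by rw [R.len_pair_symm, e])
  have h4 := R.pair_mul_lt h2 (by rintro rfl; rw [R.pair_neg_right, R.pair_self] at h1; omega)
  have h5 : R.pair b a = 1 := by rw [h3] at h4; nlinarith
  refine ⟨R.reflPerm b * R.reflPerm a * R.reflPerm b,
    mul_mem (mul_mem (R.reflPerm_mem_W _) (R.reflPerm_mem_W _)) (R.reflPerm_mem_W _), ?_⟩
  have : R.refl a (R.refl b a) = R.neg b := R.rt_inj (by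
    rw [R.rt_refl, R.pair_refl_right, R.rt_refl, R.rt_neg, h3, h5, R.pair_self]; simp)
  simp [this, R.refl_neg_self]

theorem eq_top_of_sq {K : Type*} [Field K] [Finite K] {A : AddSubgroup K} {c : K} (hc : c ∈ A) (h0 : c ≠ 0)
    (h : ∀ s t, s ≠ 0 → t ∈ A → s ^ 2 * t ∈ A) (t : K) : t ∈ A := by
  have h' : ∀ s, s ^ 2 * c ∈ A := fun s => by
    rcases eq_or_ne s 0 with rfl | hs
    · simp
    · exact h s c hs hc
  by_cases h2 : ringChar K = 2
  · obtain ⟨s, hs⟩ := FiniteField.isSquare_of_char_two h2 (t / c)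
    simpa [sq, ← hs, h0] using h' s
  · have := Ring.two_ne_zero h2
    convert sub_mem (h' ((t / c + 1) / 2)) (h' ((t / c - 1) / 2)) using 1
    field_simp; ring

variable {K : Type*} [Field K] {G : Type*} [Group G] {S : PreSys R K G}

theorem PreSys.St.x_mem_of_len (hS : S.St) (hR : R.Conn) {X : Subgroup G} (hN : S.N ≤ X) {a b : Φ} (e : R.len a = R.len b)
    (ha : ∀ u, S.x a u ∈ X) (u : K) : S.x b u ∈ X := by
  obtain ⟨w, hw, rfl⟩ := hR.exists_W e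
  obtain ⟨m, h1, h2⟩ := hS.exists_rep hw
  exact hS.x_mem_of_conj (hN h1) h2 ha u

namespace PreSys.St

variable [Finite Φ] (hS : S.St) (hF : S.Sep)
include hS hF

theorem mem_H_of_act (hO : S.Opp) {g : G} (hg : g ∈ S.U Set.univ) (h : S.Act g 1) : g ∈ S.H := by
  have k : ∀ T, g ∈ Subgroup.normalizer (S.U T : Set G) := fun T => Subgroup.mem_normalizer_iff.2 fun a =>
    ⟨h.conj_mem fun _ h => h, fun ha => by simpa [mul_assoc] using (h.inv (one_mem _)).conj_mem (T' := T) (fun _ h => h) ha⟩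
  rw [← hS.B_inf_neg_sup_H hO, ← hS.normalizer_U hF, ← op_B, ← hS.op.normalizer_U hF.op, op_pos, op_univ]
  exact ⟨⟨k _, hg⟩, k _, hg⟩

variable [Finite K]

theorem sep_lev {T : Set Φ} {f : (I → ℤ) →+ ℤ} (hT : R.Nil T f) {k : Φ} (hk : k ∈ T) {X : Subgroup G}
    (hX : X ≤ S.U (R.lev T f (f (R.rt k)))) (hH : ∀ a ∈ S.H, ∀ x ∈ X, a * x * a⁻¹ ∈ X) {x : G} (hx : x ∈ X)
    (h0 : S.co (R.lev T f (f (R.rt k))) k x ≠ 0) (hsep : ∀ k' ∈ T, f (R.rt k') = f (R.rt k) → k' ≠ k →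
      ∃ (r : Φ) (c : K), c ≠ 0 ∧ R.pair r k' = 0 ∧ c ^ R.pair r k ≠ 1) (t : K) :
    S.x k t ∈ X ⊔ S.U (R.lev T f (f (R.rt k) + 1)) := by
  classical
  have e := hT.ext_lev hk
  have h1 : ∀ s : Finset Φ, ∃ x ∈ X, S.co (R.lev T f (f (R.rt k))) k x ≠ 0 ∧
      ∀ k' ∈ s, k' ∈ T → f (R.rt k') = f (R.rt k) → k' ≠ k → S.co (R.lev T f (f (R.rt k))) k' x = 0 := fun s => by
    induction s using Finset.induction_on with
    | empty => exact ⟨x, hx, h0, by simp⟩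
    | insert a s _ ih =>
      obtain ⟨x, hx, h0, ih⟩ := ih
      by_cases ha : a ∈ T ∧ f (R.rt a) = f (R.rt k) ∧ a ≠ k
      · obtain ⟨r, c, hc, h1, h2⟩ := hsep a ha.1 ha.2.1 ha.2.2
        have h3 := hH _ (S.h_mem_H r hc) x hx
        have h4 : ∀ m ∈ T, f (R.rt m) = f (R.rt k) → S.co (R.lev T f (f (R.rt k))) m (S.h r c * x * (S.h r c)⁻¹ * x⁻¹) =
            (c ^ R.pair r m - 1) * S.co (R.lev T f (f (R.rt k))) m x := fun m hm e => by
          have e' := e ▸ hT.ext_lev hm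
          rw [co_mul e' hF (hX h3) (hX (inv_mem hx)), co_inv e' hF (hX hx), co_conj_char e' hF (hS.h_conj r hc) (hX hx)]; ring
        refine ⟨_, mul_mem h3 (inv_mem hx), by rw [h4 k hk rfl]; exact mul_ne_zero (sub_ne_zero.2 h2) h0, fun m hm h5 h6 h7 => ?_⟩
        rw [h4 m h5 h6]
        rcases Finset.mem_insert.1 hm with rfl | hm
        · simp [h1]
        · simp [ih m hm h5 h6 h7]
      · exact ⟨x, hx, h0, fun m hm h5 h6 h7 => ih m ((Finset.mem_insert.1 hm).resolve_left fun e => ha (e ▸ ⟨h5, h6, h7⟩)) h5 h6 h7⟩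
  obtain ⟨y, hy, h2, h3⟩ := h1 (Set.toFinite T).toFinset
  have h4 : ∀ t, S.x k t ∈ S.U (R.lev T f (f (R.rt k))) := S.x_mem_U e.mem
  refine eq_top_of_sq (A := ⟨⟨⟨{t | S.x k t ∈ X ⊔ S.U (R.lev T f (f (R.rt k) + 1))}, fun {a b} ha hb => ?_⟩, ?_⟩, fun {a} ha => ?_⟩)
    (show S.x k _ ∈ (X ⊔ S.U (R.lev T f (f (R.rt k) + 1)) : Subgroup G) from ?_) h2 (fun s t hs ht => ?_) t
  · rw [Set.mem_ofPred_eq, S.x_add]; exact mul_mem ha hb
  · rw [Set.mem_ofPred_eq, S.x_zero]; exact one_mem _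
  · exact show S.x k (-a) ∈ (X ⊔ S.U (R.lev T f (f (R.rt k) + 1)) : Subgroup G) from S.x_neg k a ▸ inv_mem ha
  · refine (Subgroup.mul_mem_cancel_left _ (inv_mem (Subgroup.mem_sup_left hy))).1 (Subgroup.mem_sup_right
      (mem_lev_succ hF hT (mul_mem (inv_mem (hX hy)) (h4 _)) fun m hm e' => ?_))
    have e'' := e' ▸ hT.ext_lev hm
    rw [co_mul e'' hF (inv_mem (hX hy)) (h4 _), co_inv e'' hF (hX hy)]
    rcases eq_or_ne m k with rfl | h5
    · rw [co_x e hF, neg_add_cancel]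
    · rw [co_x_ne e'' hF e.mem h5.symm, h3 m (by simpa using hm) hm e' h5, neg_add_cancel]
  · change S.x k _ ∈ X ⊔ S.U (R.lev T f (f (R.rt k) + 1))
    rw [← zpow_ofNat, ← R.pair_self k, ← hS.h_conj k hs]
    have : X ⊔ S.U (R.lev T f (f (R.rt k) + 1)) ≤ (X ⊔ S.U (R.lev T f (f (R.rt k) + 1))).comap (MulAut.conj (S.h k s)).toMonoidHom :=
      sup_le (fun x hx => Subgroup.mem_comap.2 (Subgroup.mem_sup_left (hH _ (S.h_mem_H k hs) x hx))) fun x hx =>
        Subgroup.mem_comap.2 (Subgroup.mem_sup_right (hS.H_conj_mem_U (S.h_mem_H k hs) hx))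
    exact this ht

theorem weakly_closed [Finite G] (hO : S.Opp) (p : ℕ) [Fact p.Prime] [CharP K p]
    (h2 : S.U (R.lev {r | R.Pos r} RootSys.htL 2) ≤ ⁅S.U {r | R.Pos r}, S.U {r | R.Pos r}⁆)
    (hsep : ∀ i j, j ≠ i → ∃ (r : Φ) (c : K), c ≠ 0 ∧ R.pair r (R.simple j) = 0 ∧ c ^ R.pair r (R.simple i) ≠ 1)
    {X : Subgroup G} (hX : X ≤ S.U {r | R.Pos r}) (hwc : ∀ g ∈ S.U Set.univ, (∀ x ∈ X, g * x * g⁻¹ ∈ S.U {r | R.Pos r}) →
      g ∈ Subgroup.normalizer (X : Set G)) : ∃ J, X = S.U {r | R.Pos r ∧ ¬ R.InSub J r} := by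
  set J := {i | X ≤ S.U ({r | R.Pos r} \ {R.simple i})}
  have hP : S.P J ≤ Subgroup.normalizer (X : Set G) := sup_le (fun b hb => hwc b (S.B_le_univ hb) fun x hx =>
    hS.conj_mem_Upos hb (hX hx)) ((Subgroup.closure_le _).2 (by
      rintro _ ⟨i, hi, rfl⟩
      exact hwc _ (S.N_le_univ (S.n_mem_N _ one_ne_zero)) fun x hx =>
        (hS.act_n _ one_ne_zero).conj_mem (fun r hr => R.pos_s hr.1 hr.2) (hi hx)))
  obtain ⟨w, hw, h1⟩ := R.exists_longest J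
  obtain ⟨m, hm, ha⟩ := hS.exists_rep (R.WJ_le_W J hw)
  have h3 : X ≤ S.U {r | R.Pos r ∧ ¬ R.InSub J r} := fun x hx => by
    have h3 := (ha.inv (R.WJ_le_W J hw)).conj_mem (T' := w ⁻¹' {r | R.Pos r}) (fun r hr => by simpa using hr)
      (hX ((Subgroup.mem_normalizer_iff.1 (hP (hS.mem_P_of_cell hF hw (ha.mem_cell hm))) x).1 hx))
    have h4 := Subgroup.mem_inf.2 ⟨hX hx, (by simpa [mul_assoc] using h3 : x ∈ S.U (w ⁻¹' {r | R.Pos r}))⟩
    rw [hS.U_inf_nil hF hO R.nil_pos (R.nil_pos.preimage (R.WJ_le_W J hw)).choose_spec] at h4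
    exact S.U_mono (fun r hr => And.intro hr.1 fun h => h1 r hr.1 h hr.2) h4
  have hl : R.lev {r | R.Pos r} RootSys.htL 1 = {r | R.Pos r} := Set.ext fun r => and_iff_left_of_imp R.ht_pos
  have hi : ∀ i, RootSys.htL (R.rt (R.simple i)) = 1 := R.ht_simple
  have hU := isPGroup_U p hF R.nil_pos (S := S)
  have h4 : X ⊔ S.U {r | R.Pos r ∧ R.InSub J r} = S.U {r | R.Pos r} := by
    refine PGrp.eq_of_sup_commutator hU (sup_le hX (S.U_mono fun _ h => h.1)) (S.U_le_iff.2 fun r hr t => ?_)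
    by_cases h5 : R.ht r = 1
    · obtain ⟨i, rfl⟩ := R.eq_simple_of_ht_eq_one h5
      by_cases h6 : i ∈ J
      · exact Subgroup.mem_sup_left (Subgroup.mem_sup_right (S.x_mem_U (And.intro hr (R.inSub_simple.2 h6)) t))
      obtain ⟨x, hx, h6⟩ := SetLike.not_le_iff_exists.1 (show ¬ X ≤ S.U ({r | R.Pos r} \ {R.simple i}) from h6)
      rw [show (2 : ℤ) = RootSys.htL (R.rt (R.simple i)) + 1 by rw [hi]; rfl] at h2
      refine SetLike.le_def.1 (sup_le_sup le_sup_left h2) (hS.sep_lev hF R.nil_pos hr (X := X) (by rwa [hi, hl]) (fun a ha x hx =>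
        (Subgroup.mem_normalizer_iff.1 (hP (le_sup_left (a := S.B) (S.H_le_B ha))) x).1 hx) hx (fun h => h6 ?_)
        (fun k hk e h => ?_) t)
      · simpa only [hi, hl] using mem_of_co (R.nil_pos.ext_lev hr) (by simpa only [hi, hl] using hX hx) h
      · obtain ⟨j, rfl⟩ := R.eq_simple_of_ht_eq_one (e.trans (hi i))
        exact hsep i j fun e => h (e ▸ rfl)
    · exact Subgroup.mem_sup_right (h2 (S.x_mem_U (And.intro hr (by have := R.ht_pos hr; change 2 ≤ R.ht r; omega)) t))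
  refine ⟨J, le_antisymm h3 fun g hg => ?_⟩
  obtain ⟨x, hx, y, hy, rfl⟩ := (Core.mem_sup_of_le_normalizer_left ((S.U_mono fun _ h => h.1).trans
    (S.U_le_B.trans (le_sup_left.trans hP)))).1 (h4.ge (S.U_mono (fun _ h => h.1) hg))
  have h5 : y ∈ S.U {r | R.Pos r ∧ ¬ R.InSub J r} ⊓ (S.H ⊔ S.U {r | R.InSub J r}) :=
    ⟨by simpa using mul_mem (inv_mem (h3 hx)) hg, Subgroup.mem_sup_right (S.U_mono (fun _ h => h.2) hy)⟩
  rw [hS.radical_inf_levi hF hO, Subgroup.mem_bot] at h5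
  simpa [h5] using hx

end PreSys.St

theorem PreSys.lev_le_of_forall [Finite Φ] {T : Set Φ} {f : (I → ℤ) →+ ℤ} {X : Subgroup G} {m : ℤ}
    (h : ∀ k ∈ T, m ≤ f (R.rt k) → ∀ t, S.x k t ∈ X ⊔ S.U (R.lev T f (f (R.rt k) + 1))) : S.U (R.lev T f m) ≤ X := by
  obtain ⟨n, hn⟩ := R.exists_lev_eq_empty T f
  induction' hd : (n - m).toNat with d ih generalizing m
  · exact (S.U_mono fun r hr => And.intro hr.1 (le_trans (by omega) hr.2)).trans (hn ▸ S.U_empty.le.trans bot_le :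
      S.U (R.lev T f n) ≤ X)
  · exact S.U_le_iff.2 fun k hk t => sup_le le_rfl ((S.U_mono fun r hr => And.intro hr.1 (le_trans (by have := hk.2; omega) hr.2)).trans
      (ih (m := m + 1) (fun k hk h' => h k hk (by omega)) (by omega))) (h k hk.1 hk.2 t)

end abstract

variable {D : ChevalleyDatum} {t : RTab} (h : RootOK D t) {K : Type*} [Field K] {G : Type*} [Group G] {S : PreSys h.R K G}

/-- The word of a product of commutators. -/
def cmW (l : List ((ℕ × Pol) × ℕ × Pol)) : PW := l.flatMap fun c => c.1 :: c.2 :: (invW 0 [c.1] ++ invW 0 [c.2])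

/-- Products of commutators isolating the coordinate at `j r + s`. -/
def isoW (r s : ℕ) : ℕ → Pol → Pol → List ((ℕ × Pol) × ℕ × Pol)
  | 1, _, v => [((r, cstP 1), s, v)]
  | 2, a, v => [((r, a), s, v), ((s, mulP 0 a v), r, cstP 1)]
  | _, _, v => [((r, varP 1), s, mulP 0 [(1, [0, 0, 2]), (-1, [0, 0, 1])] v),
      ((s, mulP 0 [(1, [0, 1, 2]), (-1, [0, 1, 1])] v), r, cstP 1), ((r, cstP 1), s, mulP 0 [(1, [0, 2, 1]), (-1, [0, 1, 1])] v),
      ((s, mulP 0 [(1, [0, 2]), (-1, [0, 1])] v), r, varP 2)]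

/-- The resulting coefficients. -/
def isoP : ℕ → Pol
  | 1 => varP 0
  | 2 => [(1, [1, 2]), (-1, [1, 1])]
  | _ => mulP 0 (mulP 0 (mulP 0 [(1, [0, 2]), (-1, [0, 1])] [(1, [0, 0, 2]), (-1, [0, 0, 1])]) [(1, [0, 1]), (-1, [0, 0, 1])]) (varP 0)

theorem lev_two_le (hE : S.Exact fun r s => termsF D r s) {n : ℕ} (hn : n ≠ 1 → ∃ a b : K, a ≠ 0 ∧ a ≠ 1 ∧ b ≠ 0 ∧ b ≠ 1 ∧ a ≠ b)
    (hd : ∀ k < D.nroots, 2 ≤ htN D t k → ∃ i < D.rank, ∃ j ∈ [1, 2, 3], j ≤ n ∧ ∃ s ∈ D.chainRoot (D.neg (D.simple i)) k j,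
      (s < D.nroots ∧ D.nroots ≤ 2 * s) ∧ ∃ e ∈ [1, -1], ∀ a ∈ colW D 0 ((k, mulP 0 (cstP e) (isoP j)) ::
        cmW (isoW (D.simple i) s j (varP 1) (varP 0))), htN D t k < htN D t a.1) :
    S.U (h.R.lev {r | h.R.Pos r} RootSys.htL 2) ≤ ⁅S.U {r | h.R.Pos r}, S.U {r | h.R.Pos r}⁆ := by
  refine PreSys.lev_le_of_forall fun k hk h2 u => ?_
  obtain ⟨i, hi, j, hj, hjn, s, -, hs, e, he, h3⟩ := hd k k.2 (ht_eq h k ▸ h2)
  obtain ⟨v, rfl⟩ : ∃ v, -evP v (mulP 0 (cstP e) (isoP j)) = u := by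
    have he : (e : K) ≠ 0 := by simp at he; rcases he with rfl | rfl <;> simp
    simp only [evP_mulP _ Nat.cast_zero, evP_cstP]
    simp only [List.mem_cons, List.not_mem_nil, or_false] at hj
    rcases hj with rfl | rfl | rfl
    · exact ⟨fun _ => -u / e, by simp [isoP]; field_simp⟩
    all_goals obtain ⟨a, b, h1, h2, h3, h4, h5⟩ := hn (by omega); rw [← sub_ne_zero] at h2 h4 h5
    · exact ⟨fun i => if i = 0 then -u / e / (a * (a - 1)) else a, by simp [isoP, evP, evM]; field_simp; ring⟩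
    · refine ⟨fun i => if i = 0 then -u / e / (a * (a - 1) * (b * (b - 1)) * (a - b)) else if i = 1 then a else b, ?_⟩
      simp only [isoP, evP_mulP _ Nat.cast_zero]; simp [evP, evM, varP]; field_simp; ring
  have h4 := S.evW_mem v (T := h.R.lev {r | h.R.Pos r} RootSys.htL (RootSys.htL (h.R.rt k) + 1)) fun a ha r e => by
    have := h3 a ha
    rw [← e, ← ht_eq h, ← ht_eq h] at this
    exact ⟨(h.R.pos_iff_ht r).2 ((h.R.ht_pos hk).trans this), this⟩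
  rw [PreSys.evW_colW v Nat.cast_zero h.compat hE, PreSys.evW_cons, S.xN_coe] at h4
  rw [S.x_neg]
  refine inv_mem ((Subgroup.mul_mem_cancel_right _ (Subgroup.mem_sup_left ?_)).1 (Subgroup.mem_sup_right h4))
  have h5 : ∀ p, S.xN (D.simple i) p ∈ S.U {r | h.R.Pos r} ∧ S.xN s p ∈ S.U {r | h.R.Pos r} := fun p =>
    ⟨h.compat.simple_eq ⟨i, hi⟩ ▸ S.xN_coe _ p ▸ S.x_mem_U (h.R.pos_simple _) p,
      S.xN_coe ⟨s, hs.1⟩ p ▸ S.x_mem_U ((h.pos_iff_half _).2 hs.2) p⟩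
  have h6 : ∀ l : List ((ℕ × Pol) × ℕ × Pol), (∀ c ∈ l, (∀ p, S.xN c.1.1 p ∈ S.U {r | h.R.Pos r}) ∧
      ∀ p, S.xN c.2.1 p ∈ S.U {r | h.R.Pos r}) → S.evW v (cmW l) ∈ ⁅S.U {r | h.R.Pos r}, S.U {r | h.R.Pos r}⁆ := fun l hl => by
    induction l with
    | nil => exact one_mem _
    | cons c l ih =>
      rw [cmW, List.flatMap_cons, PreSys.evW_append]
      refine mul_mem ?_ (ih fun c hc => hl c (by simp [hc]))
      simpa [PreSys.evW_invW v Nat.cast_zero, commutatorElement_def, mul_assoc] using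
        Subgroup.commutator_mem_commutator ((hl c (by simp)).1 (evP v c.1.2)) ((hl c (by simp)).2 (evP v c.2.2))
  refine h6 _ ?_
  simp only [List.mem_cons, List.not_mem_nil, or_false] at hj
  rcases hj with rfl | rfl | rfl <;> simp [isoW, h5]

end Cfsg.Lib.Chev
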